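import Groth.Agent.FrobLCI.KEuler.Basic
import Mathlib.RingTheory.Ideal.AssociatedPrime.Finiteness

/-!
The Koszul Euler characteristic: additivity and behaviour at the first element.
-/

set_option autoImplicit false
set_option linter.unusedSectionVars false

universe u

open CategoryTheory CategoryTheory.Limits HomologicalComplex
open Groth.KoszulCone

namespace Groth.KEuler

variable {A : Type u} [CommRing A]

theorem length_exact₃ {X Y Z : Type u} [AddCommGroup X] [Module A X] [AddCommGroup Y] [Module A Y]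
    [AddCommGroup Z] [Module A Z] {f : X →ₗ[A] Y} {g : Y →ₗ[A] Z} (h : Function.Exact f g) :
    Module.length A Y = Module.length A (LinearMap.range f) + Module.length A (LinearMap.range g) :=
  Module.length_eq_add_of_exact (LinearMap.range f).subtype g.rangeRestrict Subtype.val_injective
    g.surjective_rangeRestrict (fun y => by
      constructor
      · intro hy
        obtain ⟨x, hx⟩ := (h y).1 (congrArg Subtype.val hy)
        exact ⟨⟨y, x, hx⟩, rfl⟩
      · rintro ⟨⟨z, x, rfl⟩, rfl⟩
        exact Subtype.ext ((h _).2 ⟨x, rfl⟩))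

theorem length_range_le {X Y : Type u} [AddCommGroup X] [Module A X] [AddCommGroup Y] [Module A Y]
    (f : X →ₗ[A] Y) : Module.length A (LinearMap.range f) ≤ Module.length A X :=
  Module.length_le_of_surjective f.rangeRestrict f.surjective_rangeRestrict

theorem length_le_of_exact₃ {X Y Z : Type u} [AddCommGroup X] [Module A X] [AddCommGroup Y] [Module A Y]
    [AddCommGroup Z] [Module A Z] {f : X →ₗ[A] Y} {g : Y →ₗ[A] Z} (h : Function.Exact f g) :
    Module.length A Y ≤ Module.length A X + Module.length A Z :=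
  (length_exact₃ h).le.trans (add_le_add (length_range_le f)
    (Module.length_le_of_injective (LinearMap.range g).subtype Subtype.val_injective))

/-- the sign of a degree -/
abbrev sgn (j : ℕ) : ℤ := (-1) ^ j

/-- Euler characteristic of a long exact sequence -/
theorem euler_exact {X Y Z : ℤ → ModuleCat.{u} A} (f : ∀ i, X i →ₗ[A] Y i) (g : ∀ i, Y i →ₗ[A] Z i)
    (δ : ∀ i, Z i →ₗ[A] X (i + 1)) (hY : ∀ i, Function.Exact (f i) (g i))
    (hZ : ∀ i, Function.Exact (g i) (δ i)) (hX : ∀ i, Function.Exact (δ i) (f (i + 1)))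
    (fX : ∀ i, Module.length A (X i) ≠ ⊤) (fY : ∀ i, Module.length A (Y i) ≠ ⊤)
    (fZ : ∀ i, Module.length A (Z i) ≠ ⊤) (N : ℕ)
    (h1 : Module.length A (X 1) = 0) (hN : Module.length A (Z (-(N : ℤ))) = 0) :
    ∑ j ∈ Finset.range N, sgn j * ((Module.length A (Y (-(j : ℤ)))).toNat : ℤ) =
      (∑ j ∈ Finset.range N, sgn j * ((Module.length A (X (-(j : ℤ)))).toNat : ℤ)) +
        ∑ j ∈ Finset.range N, sgn j * ((Module.length A (Z (-(j : ℤ)))).toNat : ℤ) := by
  have hsub : ∀ {P : Type u} [AddCommGroup P] [Module A P] (_ : Module.length A P ≠ ⊤)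
      (U : Submodule A P), Module.length A U ≠ ⊤ := fun hP U =>
    ne_top_of_le_ne_top hP (Module.length_le_of_injective U.subtype Subtype.val_injective)
  let a : ℤ → ℤ := fun i => ((Module.length A (LinearMap.range (f i))).toNat : ℤ)
  let b : ℤ → ℤ := fun i => ((Module.length A (LinearMap.range (g i))).toNat : ℤ)
  let c : ℤ → ℤ := fun i => ((Module.length A (LinearMap.range (δ i))).toNat : ℤ)
  have eY : ∀ i, ((Module.length A (Y i)).toNat : ℤ) = a i + b i := fun i => by
    rw [length_exact₃ (hY i), ENat.toNat_add (hsub (fY i) _) (hsub (fZ i) _), Nat.cast_add]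
  have eZ : ∀ i, ((Module.length A (Z i)).toNat : ℤ) = b i + c i := fun i => by
    rw [length_exact₃ (hZ i), ENat.toNat_add (hsub (fZ i) _) (hsub (fX (i + 1)) _), Nat.cast_add]
  have eX : ∀ i, ((Module.length A (X (i + 1))).toNat : ℤ) = c i + a (i + 1) := fun i => by
    rw [length_exact₃ (hX i), ENat.toNat_add (hsub (fX (i + 1)) _) (hsub (fY (i + 1)) _), Nat.cast_add]
  have c0 : ∀ i, Module.length A (X (i + 1)) = 0 → c i = 0 := fun i h => by
    have := le_antisymm ((Module.length_le_of_injective (LinearMap.range (δ i)).subtype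
      Subtype.val_injective).trans h.le) bot_le
    simp only [c, this, ENat.toNat_zero, Nat.cast_zero, bot_eq_zero]
  let G : ℕ → ℤ := fun j => sgn j * c (-(j : ℤ))
  have hterm : ∀ j : ℕ, sgn j * ((Module.length A (Y (-(j : ℤ)))).toNat : ℤ) -
      (sgn j * ((Module.length A (X (-(j : ℤ)))).toNat : ℤ) +
        sgn j * ((Module.length A (Z (-(j : ℤ)))).toNat : ℤ)) = G (j + 1) - G j := fun j => by
    have := eX (-((j + 1 : ℕ) : ℤ))
    rw [show -((j + 1 : ℕ) : ℤ) + 1 = -(j : ℤ) by push_cast; ring] at this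
    rw [eY, eZ, this]
    simp only [G, sgn, pow_succ]
    ring
  rw [← sub_eq_zero, ← Finset.sum_add_distrib, ← Finset.sum_sub_distrib,
    Finset.sum_congr rfl fun j _ => hterm j, Finset.sum_range_sub]
  have hG0 : G 0 = 0 := by
    simp only [G, Nat.cast_zero, neg_zero]
    rw [c0 0 (by rw [zero_add]; exact h1), mul_zero]
  have hGN : G N = 0 := by
    have := le_antisymm ((length_range_le (δ (-(N : ℤ)))).trans hN.le) bot_le
    simp only [G, c, this, ENat.toNat_zero, Nat.cast_zero, mul_zero, bot_eq_zero]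
  rw [hG0, hGN, sub_zero]

/-- the lengths of the Koszul homology -/
noncomputable def h (l : List A) (M : Type u) [AddCommGroup M] [Module A M] (i : ℤ) : ℕ∞ :=
  Module.length A (H l M i)

/-- the Euler characteristic -/
noncomputable def chi (l : List A) (M : Type u) [AddCommGroup M] [Module A M] : ℤ :=
  ∑ j ∈ Finset.range (l.length + 1), sgn j * ((h l M (-(j : ℤ))).toNat : ℤ)

theorem chi_eq_sum (l : List A) (M : Type u) [AddCommGroup M] [Module A M] {N : ℕ}
    (hN : l.length + 1 ≤ N) :
    chi l M = ∑ j ∈ Finset.range N, sgn j * ((h l M (-(j : ℤ))).toNat : ℤ) := by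
  refine Finset.sum_subset (Finset.range_mono hN) fun j _ hj => ?_
  rw [Finset.mem_range, not_lt] at hj
  rw [h, length_out l M _ (Or.inl (by omega)), ENat.toNat_zero, Nat.cast_zero, mul_zero]

theorem negOnePow_neg_natCast (j : ℕ) : (((-(j : ℤ)).negOnePow : ℤˣ) : ℤ) = sgn j := by
  induction j with
  | zero => simp [sgn]
  | succ j ih =>
    rw [show -((j + 1 : ℕ) : ℤ) = -(j : ℤ) - 1 by push_cast; ring, Int.negOnePow_sub, Units.val_mul,
      ih, Int.negOnePow_one]
    simp [sgn, pow_succ]

/-- the sum of the prelude's statements -/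
theorem finsum_eq_chi (l : List A) (M : Type u) [AddCommGroup M] [Module A M] :
    (∑ᶠ i : ℤ, ((i.negOnePow : ℤˣ) : ℤ) *
      ((Module.length A ((DRing.tensorCx (Koszul.koszul A l) (ModuleCat.of A M)).homology i)).toNat : ℤ)) =
      chi l M := by
  simp only [length_bridge]
  rw [finsum_eq_sum_of_support_subset _ (s := (Finset.range (l.length + 1)).image fun j : ℕ => -(j : ℤ))
    fun i hi => ?_]
  · rw [Finset.sum_image fun a _ b _ hab => by omega]
    exact Finset.sum_congr rfl fun j _ => by rw [negOnePow_neg_natCast]; rfl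
  · by_contra hne
    refine hi ?_
    have hout : i < -(l.length : ℤ) ∨ 0 < i := by
      by_contra hc
      push Not at hc
      refine hne ?_
      rw [Finset.coe_image, Set.mem_image]
      exact ⟨(-i).toNat, Finset.mem_coe.2 (Finset.mem_range.2 (by omega)), by omega⟩
    simp only [length_out l M i hout, ENat.toNat_zero, Nat.cast_zero, mul_zero]

theorem h_congr (l : List A) {M N : Type u} [AddCommGroup M] [Module A M] [AddCommGroup N] [Module A N]
    (e : M ≃ₗ[A] N) (i : ℤ) : h l M i = h l N i := by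
  have hcomp : ∀ {P Q : ModuleCat.{u} A} (e : P ≅ Q),
      koszulMap e.hom l ≫ koszulMap e.inv l = 𝟙 (CohIII.koszulCx P l) := fun {P Q} e => by
    rw [← koszulMap_comp, e.hom_inv_id, ← one_smul A (𝟙 P), koszulMap_smul_id, one_smul]
  let eK : CohIII.koszulCx (ModuleCat.of A M) l ≅ CohIII.koszulCx (ModuleCat.of A N) l :=
    { hom := koszulMap e.toModuleIso.hom l
      inv := koszulMap e.toModuleIso.inv l
      hom_inv_id := hcomp e.toModuleIso
      inv_hom_id := hcomp e.toModuleIso.symm }
  exact ((homologyFunctor _ _ i).mapIso eK).toLinearEquiv.length_eq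

theorem chi_congr (l : List A) {M N : Type u} [AddCommGroup M] [Module A M] [AddCommGroup N] [Module A N]
    (e : M ≃ₗ[A] N) : chi l M = chi l N :=
  Finset.sum_congr rfl fun j _ => by rw [h_congr l e]

theorem h_subsingleton (l : List A) (M : Type u) [AddCommGroup M] [Module A M] [Subsingleton M] (i : ℤ) :
    h l M i = 0 := by
  rw [h, Module.length_eq_zero_iff]
  refine ⟨fun x y => ?_⟩
  have h1 : (1 : A) ∈ Module.annihilator A (H l M i) :=
    annihilator_le l M i (Ideal.mem_sup_left (Module.mem_annihilator.2 fun m => Subsingleton.elim _ _))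
  have := Module.mem_annihilator.1 h1 (x - y)
  rwa [one_smul, sub_eq_zero] at this

theorem chi_subsingleton (l : List A) (M : Type u) [AddCommGroup M] [Module A M] [Subsingleton M] :
    chi l M = 0 :=
  Finset.sum_eq_zero fun j _ => by rw [h_subsingleton]; simp

section exact

variable {M₁ M₂ M₃ : Type u} [AddCommGroup M₁] [Module A M₁] [AddCommGroup M₂] [Module A M₂]
  [AddCommGroup M₃] [Module A M₃] {f : M₁ →ₗ[A] M₂} {g : M₂ →ₗ[A] M₃}

theorem exists_les (l : List A) (hf : Function.Injective f) (hg : Function.Surjective g)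
    (he : Function.Exact f g) :
    ∃ (F : ∀ i, H l M₁ i →ₗ[A] H l M₂ i) (G : ∀ i, H l M₂ i →ₗ[A] H l M₃ i)
      (δ : ∀ i, H l M₃ i →ₗ[A] H l M₁ (i + 1)), (∀ i, Function.Exact (F i) (G i)) ∧
      (∀ i, Function.Exact (G i) (δ i)) ∧ (∀ i, Function.Exact (δ i) (F (i + 1))) := by
  let w : ModuleCat.ofHom f ≫ ModuleCat.ofHom g = 0 :=
    ModuleCat.hom_ext (LinearMap.ext fun x => he.apply_apply_eq_zero x)
  have hS := koszulSC_shortExact (ModuleCat.ofHom f) (ModuleCat.ofHom g) w hf he hg l
  let S := koszulSC (ModuleCat.ofHom f) (ModuleCat.ofHom g) w l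
  exact ⟨fun i => (homologyMap S.f i).hom, fun i => (homologyMap S.g i).hom,
    fun i => (hS.δ i (i + 1) rfl).hom,
    fun i => (ShortComplex.ShortExact.moduleCat_exact_iff_function_exact _).1 (hS.homology_exact₂ i),
    fun i => (ShortComplex.ShortExact.moduleCat_exact_iff_function_exact _).1 (hS.homology_exact₃ i (i + 1) rfl),
    fun i => (ShortComplex.ShortExact.moduleCat_exact_iff_function_exact _).1 (hS.homology_exact₁ i (i + 1) rfl)⟩

theorem h_le_add (l : List A) (hf : Function.Injective f) (hg : Function.Surjective g)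
    (he : Function.Exact f g) (i : ℤ) : h l M₂ i ≤ h l M₁ i + h l M₃ i := by
  obtain ⟨F, G, δ, h2, -, -⟩ := exists_les l hf hg he
  exact length_le_of_exact₃ (h2 i)

variable [IsNoetherianRing A]

theorem chi_add {l : List A} [Module.Finite A M₂] (hM : Good l M₂) (hf : Function.Injective f)
    (hg : Function.Surjective g) (he : Function.Exact f g) : chi l M₂ = chi l M₁ + chi l M₃ := by
  haveI : Module.Finite A M₁ := Module.Finite.of_injective f hf
  haveI : Module.Finite A M₃ := Module.Finite.of_surjective g hg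
  obtain ⟨F, G, δ, h2, h3, h1⟩ := exists_les l hf hg he
  exact euler_exact (X := fun i => H l M₁ i) (Y := fun i => H l M₂ i) (Z := fun i => H l M₃ i) F G δ h2 h3 h1
    ((hM.of_injective f hf).length_ne_top) hM.length_ne_top ((hM.of_surjective g hg).length_ne_top) _
    (length_out l M₁ 1 (Or.inr one_pos)) (length_out l M₃ _ (Or.inl (by push_cast; omega)))

end exact

section cons

variable (f : A) (l : List A) (M : Type u) [AddCommGroup M] [Module A M]

theorem exists_les_cons :
    ∃ (F : ∀ i, H l M i →ₗ[A] H l M i) (G : ∀ i, H l M i →ₗ[A] H (f :: l) M i)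
      (δ : ∀ i, H (f :: l) M i →ₗ[A] H l M (i + 1)), (∀ i, Function.Exact (F i) (G i)) ∧
      (∀ i, Function.Exact (G i) (δ i)) ∧ (∀ i, Function.Exact (δ i) (F (i + 1))) := by
  let φ := f • 𝟙 (CohIII.koszulCx (ModuleCat.of A M) l)
  choose δ hδ1 hδ2 using fun i => cone_exact_delta φ i (i + 1) rfl
  exact ⟨fun i => (homologyMap φ i).hom, fun i => (homologyMap (CochainComplex.mappingCone.inr φ) i).hom,
    δ, fun i => cone_exact₂ φ i, hδ1, hδ2⟩

theorem h_cons_le (i : ℤ) : h (f :: l) M i ≤ h l M i + h l M (i + 1) := by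
  obtain ⟨F, G, δ, -, h3, -⟩ := exists_les_cons f l M
  exact length_le_of_exact₃ (h3 i)

theorem h_cons_of_regular (hf : IsSMulRegular M f) (i : ℤ) : h (f :: l) M i = h l (QuotSMulTop f M) i :=
  (nonempty_iso_cons (M := ModuleCat.of A M) hf l i).elim fun e => e.toLinearEquiv.length_eq

theorem chi_cons_of_regular (hf : IsSMulRegular M f) : chi (f :: l) M = chi l (QuotSMulTop f M) := by
  rw [chi_eq_sum l (QuotSMulTop f M) (N := (f :: l).length + 1) (by simp)]
  exact Finset.sum_congr rfl fun j _ => by rw [h_cons_of_regular f l M hf]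

variable [IsNoetherianRing A] [Module.Finite A M]

theorem chi_cons_of_good (hM : Good l M) : chi (f :: l) M = 0 := by
  obtain ⟨F, G, δ, h2, h3, h1⟩ := exists_les_cons f l M
  have hZ : ∀ i, Module.length A (H (f :: l) M i) ≠ ⊤ := fun i =>
    (Good.length_ne_top (hM.mono (sup_le_sup_left (by rw [Ideal.ofList_cons]; exact le_sup_right) _ |>.trans
      Ideal.le_radical)) i)
  have := euler_exact (X := fun i => H l M i) (Y := fun i => H l M i) (Z := fun i => H (f :: l) M i) F G δ h2 h3 h1
    hM.length_ne_top hM.length_ne_top hZ ((f :: l).length + 1) (length_out l M 1 (Or.inr one_pos))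
    (length_out (f :: l) M _ (Or.inl (by simp only [List.length_cons]; push_cast; omega)))
  simp only [left_eq_add] at this
  exact this

end cons

/-- induction along prime filtrations -/
theorem devissage [IsNoetherianRing A] (l : List A) (P : ∀ (M : Type u) [AddCommGroup M] [Module A M], Prop)
    (hcongr : ∀ (M N : Type u) [AddCommGroup M] [Module A M] [AddCommGroup N] [Module A N],
      (M ≃ₗ[A] N) → P M → P N)
    (hzero : ∀ (M : Type u) [AddCommGroup M] [Module A M] [Subsingleton M], P M)
    (hprime : ∀ p : Ideal A, p.IsPrime → Good l (A ⧸ p) → P (A ⧸ p))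
    (hexact : ∀ (M₁ M₂ M₃ : Type u) [AddCommGroup M₁] [Module A M₁] [AddCommGroup M₂] [Module A M₂]
      [AddCommGroup M₃] [Module A M₃] [Module.Finite A M₂] (f : M₁ →ₗ[A] M₂) (g : M₂ →ₗ[A] M₃),
      Good l M₂ → Function.Injective f → Function.Surjective g → Function.Exact f g → P M₁ → P M₃ → P M₂)
    (M : Type u) [AddCommGroup M] [Module A M] [Module.Finite A M] (hM : Good l M) : P M := by
  refine IsNoetherianRing.induction_on_isQuotientEquivQuotientPrime A (M := M) inferInstance
    (motive := fun N _ _ _ => Good l N → P N) ?_ ?_ ?_ hM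
  · intro N _ _ _ _ _
    exact hzero N
  · intro N _ _ _ p e hN
    exact hcongr _ _ e.symm (hprime p.1 p.2 ((good_congr e).1 hN))
  · intro N₁ _ _ _ N₂ _ _ _ N₃ _ _ _ f g hf hg hfg h1 h3 hN
    exact hexact N₁ N₂ N₃ f g hN hf hg hfg (h1 (hN.of_injective f hf)) (h3 (hN.of_surjective g hg))

end Groth.KEuler
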