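import Groth.Agent.FrobLCI.KEuler.Chi
import Mathlib.RingTheory.KrullDimension.NonZeroDivisors
import Mathlib.RingTheory.Flat.Localization

/-!
The properties of the Koszul Euler characteristic, by devissage.
-/

set_option autoImplicit false
set_option linter.unusedSectionVars false

universe u

open CategoryTheory CategoryTheory.Limits HomologicalComplex TensorProduct
open scoped Pointwise

namespace Groth.KEuler

variable {A : Type u} [CommRing A]

theorem h_nil (M : Type u) [AddCommGroup M] [Module A M] : h ([] : List A) M 0 = Module.length A M :=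
  (singleObjHomologySelfIso (ComplexShape.up ℤ) 0 (ModuleCat.of A M)).toLinearEquiv.length_eq

theorem chi_nil (M : Type u) [AddCommGroup M] [Module A M] :
    chi ([] : List A) M = ((Module.length A M).toNat : ℤ) := by
  rw [chi, List.length_nil, zero_add, Finset.sum_range_one, Nat.cast_zero, neg_zero, h_nil]
  simp [sgn]

theorem h_of_top {l : List A} (hl : Ideal.ofList l = ⊤) (M : Type u) [AddCommGroup M] [Module A M] (i : ℤ) :
    h l M i = 0 := by
  rw [h, Module.length_eq_zero_iff]
  refine ⟨fun x y => ?_⟩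
  have h1 : (1 : A) ∈ Module.annihilator A (H l M i) :=
    annihilator_le l M i (Ideal.mem_sup_right (hl ▸ Submodule.mem_top))
  have := Module.mem_annihilator.1 h1 (x - y)
  rwa [one_smul, sub_eq_zero] at this

theorem chi_of_top {l : List A} (hl : Ideal.ofList l = ⊤) (M : Type u) [AddCommGroup M] [Module A M] :
    chi l M = 0 :=
  Finset.sum_eq_zero fun j _ => by rw [h_of_top hl]; simp

theorem quotient_regular {p : Ideal A} [hp : p.IsPrime] {f : A} (hf : f ∉ p) : IsSMulRegular (A ⧸ p) f :=
  fun x y hxy => by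
    have h0 : Ideal.Quotient.mk p f ≠ 0 := by rwa [Ne, Ideal.Quotient.eq_zero_iff_mem]
    have e : ∀ z : A ⧸ p, f • z = Ideal.Quotient.mk p f * z := fun z => Algebra.smul_def f z
    have hxy' : f • x = f • y := hxy
    rw [e, e] at hxy'
    exact mul_left_cancel₀ h0 hxy'

theorem mem_radical_annihilator {p : Ideal A} {f : A} (hf : f ∈ p) :
    f ∈ (Module.annihilator A (A ⧸ p)).radical :=
  Ideal.le_radical (by rw [Ideal.annihilator_quotient]; exact hf)

/-- `0 → M/xM → M/xyM → M/yM → 0` -/
theorem exists_mul_seq {M : Type u} [AddCommGroup M] [Module A M] {x y : A} (hy : IsSMulRegular M y) :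
    ∃ (u : QuotSMulTop x M →ₗ[A] QuotSMulTop (x * y) M) (v : QuotSMulTop (x * y) M →ₗ[A] QuotSMulTop y M),
      Function.Injective u ∧ Function.Surjective v ∧ Function.Exact u v := by
  have mem : ∀ (a : A) (z : M), z ∈ a • (⊤ : Submodule A M) ↔ ∃ w, a • w = z := fun a z => by
    rw [Submodule.mem_smul_pointwise_iff_exists]
    exact ⟨fun ⟨w, _, hw⟩ => ⟨w, hw⟩, fun ⟨w, hw⟩ => ⟨w, Submodule.mem_top, hw⟩⟩
  refine ⟨Submodule.mapQ _ _ (y • LinearMap.id) ?_, Submodule.mapQ _ _ LinearMap.id ?_, ?_, ?_, ?_⟩
  · intro z hz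
    obtain ⟨w, rfl⟩ := (mem _ _).1 hz
    exact (mem _ _).2 ⟨w, by simp [mul_smul, smul_comm y x]⟩
  · intro z hz
    obtain ⟨w, rfl⟩ := (mem _ _).1 hz
    exact (mem _ _).2 ⟨x • w, by simp [← mul_smul, mul_comm y x]⟩
  · rw [injective_iff_map_eq_zero]
    intro z hz
    obtain ⟨z, rfl⟩ := Submodule.mkQ_surjective _ z
    obtain ⟨w, hw⟩ := (mem _ _).1 ((Submodule.Quotient.mk_eq_zero _).1 hz)
    refine (Submodule.Quotient.mk_eq_zero _).2 ((mem _ _).2 ⟨w, hy ?_⟩)
    simpa [← mul_smul, mul_comm y x] using hw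
  · intro z
    obtain ⟨z, rfl⟩ := Submodule.mkQ_surjective _ z
    exact ⟨Submodule.Quotient.mk z, rfl⟩
  · intro z
    obtain ⟨z, rfl⟩ := Submodule.mkQ_surjective _ z
    constructor
    · intro hz
      obtain ⟨w, hw⟩ := (mem _ _).1 ((Submodule.Quotient.mk_eq_zero _).1 hz)
      exact ⟨Submodule.Quotient.mk w, congrArg Submodule.Quotient.mk hw⟩
    · rintro ⟨w, hw⟩
      obtain ⟨w, rfl⟩ := Submodule.mkQ_surjective _ w
      rw [← hw]
      exact (Submodule.Quotient.mk_eq_zero _).2 ((mem _ _).2 ⟨w, rfl⟩)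

theorem subsingleton_quot_one (M : Type u) [AddCommGroup M] [Module A M] : Subsingleton (QuotSMulTop (1 : A) M) :=
  Submodule.Quotient.subsingleton_iff.2 (one_smul _ _)

theorem h_quot_pow_le (l : List A) {M : Type u} [AddCommGroup M] [Module A M] {f : A}
    (hf : IsSMulRegular M f) (i : ℤ) : ∀ n : ℕ, h l (QuotSMulTop (f ^ n) M) i ≤ n * h l (QuotSMulTop f M) i := by
  intro n
  induction n with
  | zero =>
    haveI := subsingleton_quot_one (A := A) M
    rw [pow_zero, h_subsingleton]
    exact zero_le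
  | succ n ih =>
    obtain ⟨u, v, hu, hv, he⟩ := exists_mul_seq (x := f ^ n) hf
    rw [pow_succ]
    refine (h_le_add l hu hv he i).trans ((add_le_add ih le_rfl).trans (le_of_eq ?_))
    push_cast
    ring

theorem ofList_cons_eq (x : A) (l : List A) :
    Ideal.ofList (x :: l) = Ideal.span ({x} ∪ {a : A | a ∈ l}) := by
  rw [Ideal.ofList]
  exact congrArg Ideal.span (Set.ext fun a => List.mem_cons)

section arith

variable [IsNoetherianRing A]

theorem good_pow_iff_le {k : ℕ} {x : Fin k → A} {m : Fin k → ℕ} {p : Ideal A} (hp : p.IsPrime)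
    (h : Ideal.ofList (List.ofFn fun j => x j ^ m j) ≤ p) : Ideal.ofList (List.ofFn x) ≤ p := by
  rw [Ideal.ofList, Ideal.span_le]
  intro a ha
  obtain ⟨j, rfl⟩ := (List.mem_ofFn' x a).1 ha
  exact hp.mem_of_pow_mem (m j) (h (Ideal.subset_span ((List.mem_ofFn' _ _).2 ⟨j, rfl⟩)))

theorem Good.pow {k : ℕ} {x : Fin k → A} {M : Type u} [AddCommGroup M] [Module A M]
    (hM : Good (List.ofFn x) M) (m : Fin k → ℕ) : Good (List.ofFn fun j => x j ^ m j) M :=
  fun p hp hle => hM p hp (sup_le (le_sup_left.trans hle) (good_pow_iff_le hp (le_sup_right.trans hle)))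

theorem good_ofFn {k : ℕ} {x : Fin k → A} {M : Type u} [AddCommGroup M] [Module A M] [Module.Finite A M]
    (hfl : IsFiniteLength A (M ⧸ (Ideal.span (Set.range x) • (⊤ : Submodule A M)))) :
    Good (List.ofFn x) M := by
  refine good_of_finiteLength _ M ?_
  have : Ideal.ofList (List.ofFn x) = Ideal.span (Set.range x) := by
    rw [Ideal.ofList]
    exact congrArg Ideal.span (Set.ext fun a => (List.mem_ofFn' x a))
  rwa [this]

theorem chi_quot_pow {l : List A} {M : Type u} [AddCommGroup M] [Module A M] [Module.Finite A M] {f : A}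
    (hf : IsSMulRegular M f) (hG : Good (f :: l) M) :
    ∀ n : ℕ, chi l (QuotSMulTop (f ^ n) M) = n * chi l (QuotSMulTop f M) := by
  intro n
  induction n with
  | zero =>
    haveI := subsingleton_quot_one (A := A) M
    rw [pow_zero, chi_subsingleton]; simp
  | succ n ih =>
    obtain ⟨u, v, hu, hv, he⟩ := exists_mul_seq (x := f ^ n) hf
    have hg : Good (f ^ n * f :: l) M := fun p hp hle => hG p hp <| by
      rw [Ideal.ofList_cons] at hle ⊢
      refine sup_le (le_sup_left.trans hle) (sup_le ?_ ((le_sup_right.trans le_sup_right).trans hle))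
      rw [Ideal.span_singleton_le_iff_mem]
      refine hp.mem_of_pow_mem (n + 1) ?_
      rw [pow_succ]
      exact hle (Ideal.mem_sup_right (Ideal.mem_sup_left (Ideal.mem_span_singleton_self _)))
    rw [pow_succ, chi_add hg.quot hu hv he, ih]
    push_cast
    ring

theorem chi_pow_prod : ∀ (k : ℕ) (x : Fin k → A) (m : Fin k → ℕ) (M : Type u) [AddCommGroup M] [Module A M]
    [Module.Finite A M], Good (List.ofFn x) M →
    chi (List.ofFn fun j => x j ^ m j) M = (∏ j, (m j : ℤ)) * chi (List.ofFn x) M := by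
  intro k
  induction k with
  | zero =>
    intro x m M _ _ _ _
    rw [List.ofFn_zero, List.ofFn_zero, Fin.prod_univ_zero, one_mul]
  | succ k ih =>
    intro x m M _ _ _ hM
    refine devissage (List.ofFn x) (fun N _ _ => chi (List.ofFn fun j => x j ^ m j) N =
      (∏ j, (m j : ℤ)) * chi (List.ofFn x) N) ?_ ?_ ?_ ?_ M hM
    · intro N N' _ _ _ _ e h
      rwa [← chi_congr _ e, ← chi_congr _ e]
    · intro N _ _ _
      rw [chi_subsingleton, chi_subsingleton, mul_zero]
    · intro p hp hG
      have hG' := hG.pow m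
      rw [List.ofFn_succ] at hG
      rw [List.ofFn_succ] at hG'
      rw [List.ofFn_succ, List.ofFn_succ, Fin.prod_univ_succ]
      rcases Nat.eq_zero_or_pos (m 0) with h0 | h0
      · rw [h0, Nat.cast_zero, zero_mul, zero_mul, pow_zero]
        exact chi_of_top (by rw [Ideal.ofList_cons, Ideal.span_singleton_one, top_sup_eq]) _
      by_cases hx : x 0 ∈ p
      · have h2 := hG.tail (mem_radical_annihilator hx)
        rw [chi_cons_of_good _ _ _ h2, mul_zero,
          chi_cons_of_good _ _ _ (h2.pow fun j => m j.succ)]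
      · have hreg := quotient_regular hx
        rw [chi_cons_of_regular _ _ _ (hreg.pow (m 0)), chi_cons_of_regular _ _ _ hreg]
        have hG2 : Good (x 0 :: List.ofFn fun j : Fin k => x j.succ ^ m j.succ) (A ⧸ p) := by
          intro q hq hle
          refine hG' q hq (sup_le (le_sup_left.trans hle) ?_)
          rw [Ideal.ofList_cons]
          rw [Ideal.ofList_cons] at hle
          refine sup_le ?_ ((le_sup_right.trans le_sup_right).trans hle)
          rw [Ideal.span_singleton_le_iff_mem]
          exact Ideal.pow_mem_of_mem q (hle (Ideal.mem_sup_right (Ideal.mem_sup_left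
            (Ideal.mem_span_singleton_self _)))) _ h0
        rw [chi_quot_pow hreg hG2, ih _ _ _ hG.quot]
        ring
    · intro M₁ M₂ M₃ _ _ _ _ _ _ _ f g hG hf hg he h1 h3
      rw [chi_add (hG.pow m) hf hg he, chi_add hG hf hg he, h1, h3]
      ring

theorem chi_mul (x y : A) (l : List A) (M : Type u) [AddCommGroup M] [Module A M] [Module.Finite A M]
    (hx : Good (x :: l) M) (hy : Good (y :: l) M) :
    chi ((x * y) :: l) M = chi (x :: l) M + chi (y :: l) M := by
  have hxy : Good ((x * y) :: l) M := fun p hp hle => by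
    have hmem : x * y ∈ p := hle (Ideal.mem_sup_right (by
      rw [Ideal.ofList_cons]; exact Ideal.mem_sup_left (Ideal.mem_span_singleton_self _)))
    have hl : Module.annihilator A M ⊔ Ideal.ofList l ≤ p :=
      le_trans (sup_le_sup_left (by rw [Ideal.ofList_cons]; exact le_sup_right) _) hle
    rcases hp.mem_or_mem hmem with h | h
    · exact hx p hp (sup_le (le_sup_left.trans hl) (by
        rw [Ideal.ofList_cons]; exact sup_le ((Ideal.span_singleton_le_iff_mem _).2 h) (le_sup_right.trans hl)))
    · exact hy p hp (sup_le (le_sup_left.trans hl) (by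
        rw [Ideal.ofList_cons]; exact sup_le ((Ideal.span_singleton_le_iff_mem _).2 h) (le_sup_right.trans hl)))
  refine (devissage ((x * y) :: l) (fun N _ _ => Good (x :: l) N → Good (y :: l) N →
    chi ((x * y) :: l) N = chi (x :: l) N + chi (y :: l) N) ?_ ?_ ?_ ?_ M hxy) hx hy
  · intro N N' _ _ _ _ e h h1 h2
    rw [← chi_congr _ e, ← chi_congr _ e, ← chi_congr _ e]
    exact h ((good_congr e).2 h1) ((good_congr e).2 h2)
  · intro N _ _ _ _ _
    rw [chi_subsingleton, chi_subsingleton, chi_subsingleton, add_zero]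
  · intro p hp hG h1 h2
    by_cases hxp : x ∈ p
    · have hl := h1.tail (mem_radical_annihilator hxp)
      rw [chi_cons_of_good _ _ _ hl, chi_cons_of_good _ _ _ hl, chi_cons_of_good _ _ _ hl, add_zero]
    by_cases hyp : y ∈ p
    · have hl := h2.tail (mem_radical_annihilator hyp)
      rw [chi_cons_of_good _ _ _ hl, chi_cons_of_good _ _ _ hl, chi_cons_of_good _ _ _ hl, add_zero]
    · have hxy' : x * y ∉ p := fun h => (hp.mem_or_mem h).elim hxp hyp
      rw [chi_cons_of_regular _ _ _ (quotient_regular hxy'), chi_cons_of_regular _ _ _ (quotient_regular hxp),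
        chi_cons_of_regular _ _ _ (quotient_regular hyp)]
      obtain ⟨u, v, hu, hv, he⟩ := exists_mul_seq (x := x) (quotient_regular hyp)
      exact chi_add hG.quot hu hv he
  · intro M₁ M₂ M₃ _ _ _ _ _ _ _ f g hG hf hg he k1 k3 h1 h2
    rw [chi_add hG hf hg he, chi_add h1 hf hg he, chi_add h2 hf hg he,
      k1 (h1.of_injective f hf) (h2.of_injective f hf), k3 (h1.of_surjective g hg) (h2.of_surjective g hg)]
    ring

end arith

section dimension

theorem supportDim_le_max {M₁ M₂ M₃ : Type u} [AddCommGroup M₁] [Module A M₁] [AddCommGroup M₂] [Module A M₂]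
    [AddCommGroup M₃] [Module A M₃] {f : M₁ →ₗ[A] M₂} {g : M₂ →ₗ[A] M₃} (hf : Function.Injective f)
    (hg : Function.Surjective g) (he : Function.Exact f g) :
    Module.supportDim A M₂ ≤ max (Module.supportDim A M₁) (Module.supportDim A M₃) := by
  refine iSup_le fun s => ?_
  have h : s.head.1 ∈ Module.support A M₂ := s.head.2
  generalize hq : (s.head : Module.support A M₂).1 = q at h
  rw [Module.support_of_exact he hf hg] at h
  subst hq
  rcases h with h | h
  · exact le_max_of_le_left (Order.LTSeries.length_le_krullDim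
      ({ length := s.length
         toFun := fun i => ⟨(s i).1, Module.mem_support_mono (s.monotone (Fin.zero_le i)) h⟩
         step := fun i => s.step i } : LTSeries (Module.support A M₁)))
  · exact le_max_of_le_right (Order.LTSeries.length_le_krullDim
      ({ length := s.length
         toFun := fun i => ⟨(s i).1, Module.mem_support_mono (s.monotone (Fin.zero_le i)) h⟩
         step := fun i => s.step i } : LTSeries (Module.support A M₃)))

theorem exists_nat_or_bot {z : WithBot ℕ∞} {d : ℕ} (h : z ≤ (d : WithBot ℕ∞)) :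
    z = ⊥ ∨ ∃ k ≤ d, z = (k : WithBot ℕ∞) := by
  induction z using WithBot.recBotCoe with
  | bot => exact Or.inl rfl
  | coe a =>
    obtain ⟨k, hk⟩ := ENat.ne_top_iff_exists.1
      (ne_top_of_le_ne_top (ENat.natCast_ne_top d) (WithBot.coe_le_coe.1 h))
    subst hk
    exact Or.inr ⟨k, by exact_mod_cast h, rfl⟩

theorem natCast_ne_bot (n : ℕ) : (n : WithBot ℕ∞) ≠ ⊥ := WithBot.coe_ne_bot

variable [IsNoetherianRing A] [IsLocalRing A]

theorem dim_le_of_good {d : ℕ} {x : Fin d → A} (hx : ∀ j, x j ∈ IsLocalRing.maximalIdeal A)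
    (M : Type u) [AddCommGroup M] [Module A M] [Module.Finite A M] (hM : Good (List.ofFn x) M) :
    Module.supportDim A M ≤ (d : WithBot ℕ∞) := by
  refine Groth.Ega41Dim.supportDim_le_of_finiteLength_quot d M x (fun i => ?_) ?_
  · rw [IsLocalRing.ringJacobson_eq_maximalIdeal]
    exact hx i
  · have h := hM.quot_smul_top
    have e : Ideal.ofList (List.ofFn x) = Ideal.span (Set.range x) := by
      rw [Ideal.ofList]
      exact congrArg Ideal.span (Set.ext fun a => (List.mem_ofFn' x a))
    rwa [e] at h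

theorem chi_dim : ∀ (d : ℕ) (x : Fin d → A), (∀ j, x j ∈ IsLocalRing.maximalIdeal A) →
    ∀ (M : Type u) [AddCommGroup M] [Module A M] [Module.Finite A M], Good (List.ofFn x) M →
    0 ≤ chi (List.ofFn x) M ∧ (Module.supportDim A M = (d : WithBot ℕ∞) → 0 < chi (List.ofFn x) M) ∧
      (Module.supportDim A M < (d : WithBot ℕ∞) → chi (List.ofFn x) M = 0) := by
  intro d
  induction d with
  | zero =>
    intro x _ M _ _ _ hM
    rw [List.ofFn_zero] at hM ⊢
    rw [chi_nil]
    refine ⟨Nat.cast_nonneg _, fun h => ?_, fun h => ?_⟩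
    · haveI : Nontrivial M := (Module.supportDim_ne_bot_iff_nontrivial A M).1 (h ▸ (natCast_ne_bot 0))
      rw [Nat.cast_pos, Nat.pos_iff_ne_zero, Ne, ENat.toNat_eq_zero, not_or]
      exact ⟨(Module.length_pos).ne', hM.finiteLength_nil⟩
    · haveI : Subsingleton M := by
        rw [← Module.supportDim_eq_bot_iff_subsingleton A M]
        rcases exists_nat_or_bot h.le with h' | ⟨k, hk, h'⟩
        · exact h'
        · rw [h'] at h
          have : k < 0 := by exact_mod_cast h
          omega
      rw [Module.length_eq_zero]; simp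
  | succ d ih =>
    intro x hx M _ _ _ hM
    refine devissage (List.ofFn x) (fun N _ _ => 0 ≤ chi (List.ofFn x) N ∧
      (Module.supportDim A N = ((d + 1 : ℕ) : WithBot ℕ∞) → 0 < chi (List.ofFn x) N) ∧
      (Module.supportDim A N < ((d + 1 : ℕ) : WithBot ℕ∞) → chi (List.ofFn x) N = 0)) ?_ ?_ ?_ ?_ M hM
    · intro N N' _ _ _ _ e h
      rwa [← chi_congr _ e, ← Module.supportDim_eq_of_equiv e]
    · intro N _ _ _
      rw [chi_subsingleton, Module.supportDim_eq_bot_of_subsingleton]
      exact ⟨le_rfl, fun h => absurd h (natCast_ne_bot _).symm, fun _ => rfl⟩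
    · intro p hp hG
      have hdle := dim_le_of_good hx _ hG
      rw [List.ofFn_succ] at hG ⊢
      by_cases hxp : x 0 ∈ p
      · have hl := hG.tail (mem_radical_annihilator hxp)
        rw [chi_cons_of_good _ _ _ hl]
        have hd' : Module.supportDim A (A ⧸ p) ≤ (d : WithBot ℕ∞) := dim_le_of_good (fun j => hx _) _ hl
        refine ⟨le_rfl, fun h => ?_, fun _ => rfl⟩
        rw [h] at hd'
        have : d + 1 ≤ d := by exact_mod_cast hd'
        omega
      · have hreg := quotient_regular hxp
        rw [chi_cons_of_regular _ _ _ hreg,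
          ← Module.supportDim_quotSMulTop_succ_eq_supportDim hreg (hx 0)]
        obtain ⟨h1, h2, h3⟩ := ih (fun j => x j.succ) (fun j => hx _) _ hG.quot
        have hQ := dim_le_of_good (fun j => hx _) _ hG.quot
        refine ⟨h1, fun h => h2 ?_, fun h => h3 ?_⟩
        · rcases exists_nat_or_bot hQ with h' | ⟨k, -, h'⟩
          · rw [h', WithBot.bot_add] at h; exact absurd h (natCast_ne_bot _).symm
          · rw [h'] at h ⊢
            have : k + 1 = d + 1 := by exact_mod_cast h
            exact_mod_cast (by omega : k = d)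
        · rcases exists_nat_or_bot hQ with h' | ⟨k, -, h'⟩
          · rw [h']; exact WithBot.bot_lt_coe _
          · rw [h'] at h ⊢
            have : k + 1 < d + 1 := by exact_mod_cast h
            exact_mod_cast (by omega : k < d)
    · intro M₁ M₂ M₃ _ _ _ _ _ _ _ f g hG hf hg he h1 h3
      rw [chi_add hG hf hg he]
      obtain ⟨a1, b1, c1⟩ := h1
      obtain ⟨a3, b3, c3⟩ := h3
      have hle := supportDim_le_max hf hg he
      have l1 := Module.supportDim_le_of_injective f hf
      have l3 := Module.supportDim_le_of_surjective g hg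
      refine ⟨add_nonneg a1 a3, fun h => ?_, fun h => ?_⟩
      · rw [h] at hle l1 l3
        rcases le_max_iff.1 hle with hh | hh
        · linarith [b1 (le_antisymm l1 hh)]
        · linarith [b3 (le_antisymm l3 hh)]
      · rw [c1 (l1.trans_lt h), c3 (l3.trans_lt h), add_zero]

theorem chi_rank [IsDomain A] {d : ℕ} (hd : ringKrullDim A = d) {x : Fin d → A}
    (hx : ∀ j, x j ∈ IsLocalRing.maximalIdeal A) (hA : Good (List.ofFn x) A)
    (M : Type u) [AddCommGroup M] [Module A M] [Module.Finite A M] :
    chi (List.ofFn x) M =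
      (Module.finrank (FractionRing A) (FractionRing A ⊗[A] M) : ℤ) * chi (List.ofFn x) A := by
  have hG : Good (List.ofFn x) M := fun p hp hle => hA p hp (sup_le (fun a ha => by
    have : a = 0 := by simpa using (Module.mem_annihilator.1 ha (1 : A))
    rw [this]; exact p.zero_mem) (le_sup_right.trans hle))
  refine devissage (List.ofFn x) (fun N _ _ => chi (List.ofFn x) N =
    (Module.finrank (FractionRing A) (FractionRing A ⊗[A] N) : ℤ) * chi (List.ofFn x) A) ?_ ?_ ?_ ?_ M hG
  · intro N N' _ _ _ _ e h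
    rw [← chi_congr _ e, ← (AlgebraTensorModule.congr (LinearEquiv.refl (FractionRing A) (FractionRing A)) e).finrank_eq]
    exact h
  · intro N _ _ _
    rw [chi_subsingleton, Module.finrank_zero_of_subsingleton, Nat.cast_zero, zero_mul]
  · intro p hp hGp
    by_cases hbot : p = ⊥
    · subst hbot
      let e := Submodule.quotEquivOfEqBot (⊥ : Ideal A) rfl
      rw [chi_congr _ e, ((AlgebraTensorModule.congr (LinearEquiv.refl (FractionRing A) (FractionRing A)) e).trans
        (AlgebraTensorModule.rid A (FractionRing A) (FractionRing A))).finrank_eq, Module.finrank_self,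
        Nat.cast_one, one_mul]
    · obtain ⟨a, hap, ha0⟩ := Submodule.exists_mem_ne_zero_of_ne_bot hbot
      have hdim : Module.supportDim A (A ⧸ p) < (d : WithBot ℕ∞) := by
        rw [Module.supportDim_quotient_eq_ringKrullDim]
        have h1 : ringKrullDim (A ⧸ p) ≤ ringKrullDim (A ⧸ Ideal.span {a}) :=
          ringKrullDim_le_of_surjective (Ideal.Quotient.factor ((Ideal.span_singleton_le_iff_mem _).2 hap))
            (Ideal.Quotient.factor_surjective _)
        have h2 := ringKrullDim_quotient_succ_le_of_nonZeroDivisor (mem_nonZeroDivisors_of_ne_zero ha0)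
        rw [hd] at h2
        have h3 : ringKrullDim (A ⧸ p) + 1 ≤ (d : WithBot ℕ∞) := (add_le_add h1 le_rfl).trans h2
        rcases exists_nat_or_bot ((le_add_of_nonneg_right zero_le_one).trans h3) with h' | ⟨k, -, h'⟩
        · rw [h']; exact WithBot.bot_lt_coe _
        · rw [h'] at h3 ⊢
          have : k + 1 ≤ d := by exact_mod_cast h3
          exact_mod_cast (by omega : k < d)
      haveI : Subsingleton (FractionRing A ⊗[A] (A ⧸ p)) := by
        refine ⟨fun u v => ?_⟩
        have hzero : ∀ z : FractionRing A ⊗[A] (A ⧸ p), a • z = 0 := fun z => by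
          induction z using TensorProduct.induction_on with
          | zero => exact smul_zero a
          | tmul c n =>
            rw [← TensorProduct.tmul_smul]
            obtain ⟨n, rfl⟩ := Ideal.Quotient.mk_surjective n
            rw [show a • Ideal.Quotient.mk p n = (0 : A ⧸ p) from
              Ideal.Quotient.eq_zero_iff_mem.2 (p.mul_mem_right _ hap), TensorProduct.tmul_zero]
          | add u v hu hv => rw [smul_add, hu, hv, add_zero]
        have h := hzero (u - v)
        rw [← algebraMap_smul (FractionRing A) a, smul_eq_zero] at h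
        exact sub_eq_zero.1 (h.resolve_left (by simpa using ha0))
      rw [(chi_dim d x hx _ hGp).2.2 hdim, Module.finrank_zero_of_subsingleton, Nat.cast_zero, zero_mul]
  · intro M₁ M₂ M₃ _ _ _ _ _ _ _ f g hG hf hg he h1 h3
    rw [chi_add hG hf hg he, h1, h3, ← add_mul, ← Nat.cast_add]
    congr 2
    haveI : Module.Finite A M₁ := Module.Finite.of_injective f hf
    haveI : Module.Finite A M₃ := Module.Finite.of_surjective g hg
    let fK := f.baseChange (FractionRing A)
    let gK := g.baseChange (FractionRing A)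
    have hfK : Function.Injective fK := Module.Flat.lTensor_preserves_injective_linearMap f hf
    have hgK : Function.Surjective gK := LinearMap.lTensor_surjective _ hg
    have heK : Function.Exact fK gK := lTensor_exact (FractionRing A) he hg
    rw [← LinearMap.finrank_range_add_finrank_ker gK, LinearMap.range_eq_top.2 hgK, finrank_top,
      heK.linearMap_ker_eq, LinearMap.finrank_range_of_inj hfK, add_comm]

end dimension

section bounds

variable [IsNoetherianRing A]

/-- a polynomial bound on the homology of the powers -/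
def Bd {k : ℕ} (x : Fin k → A) (e : ℕ) (i : ℤ) (M : Type u) [AddCommGroup M] [Module A M] : Prop :=
  ∃ c : ℕ, ∀ n : ℕ, 0 < n → h (List.ofFn fun j => x j ^ n) M i ≤ ((c * n ^ e : ℕ) : ℕ∞)

theorem Bd.congr {k : ℕ} {x : Fin k → A} {e : ℕ} {i : ℤ} {M N : Type u} [AddCommGroup M] [Module A M]
    [AddCommGroup N] [Module A N] (q : M ≃ₗ[A] N) (h : Bd x e i M) : Bd x e i N := by
  obtain ⟨c, hc⟩ := h
  exact ⟨c, fun n hn => (h_congr _ q i).ge.trans (hc n hn)⟩

theorem Bd.of_exact {k : ℕ} {x : Fin k → A} {e : ℕ} {i : ℤ} {M₁ M₂ M₃ : Type u} [AddCommGroup M₁]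
    [Module A M₁] [AddCommGroup M₂] [Module A M₂] [AddCommGroup M₃] [Module A M₃] {f : M₁ →ₗ[A] M₂}
    {g : M₂ →ₗ[A] M₃} (hf : Function.Injective f) (hg : Function.Surjective g) (he : Function.Exact f g)
    (h1 : Bd x e i M₁) (h3 : Bd x e i M₃) : Bd x e i M₂ := by
  obtain ⟨a, ha⟩ := h1
  obtain ⟨b, hb⟩ := h3
  refine ⟨a + b, fun n hn => (h_le_add _ hf hg he i).trans ((add_le_add (ha n hn) (hb n hn)).trans ?_)⟩
  rw [← Nat.cast_add, Nat.cast_le, add_mul]

theorem Bd.of_out {k : ℕ} {x : Fin k → A} {e : ℕ} {i : ℤ} (hi : i < -(k : ℤ) ∨ 0 < i)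
    (M : Type u) [AddCommGroup M] [Module A M] : Bd x e i M :=
  ⟨0, fun n _ => by rw [h, length_out _ _ _ (by simpa using hi)]; exact zero_le⟩

/-- the two cases for a quotient by a prime -/
theorem bd_cons {k : ℕ} {x : Fin (k + 1) → A} {e : ℕ} {i : ℤ} {p : Ideal A} [p.IsPrime]
    (hin : x 0 ∈ p → ∃ e₁ e₂, e₁ ≤ e ∧ e₂ ≤ e ∧ Bd (fun j => x j.succ) e₁ i (A ⧸ p) ∧
      Bd (fun j => x j.succ) e₂ (i + 1) (A ⧸ p))
    (hout : x 0 ∉ p → ∃ e', e' + 1 ≤ e ∧ Bd (fun j => x j.succ) e' i (QuotSMulTop (x 0) (A ⧸ p))) :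
    Bd x e i (A ⧸ p) := by
  by_cases hx : x 0 ∈ p
  · obtain ⟨e₁, e₂, he₁, he₂, ⟨a, ha⟩, ⟨b, hb⟩⟩ := hin hx
    refine ⟨a + b, fun n hn => ?_⟩
    rw [List.ofFn_succ]
    refine (h_cons_le _ _ _ _).trans ((add_le_add (ha n hn) (hb n hn)).trans ?_)
    rw [← Nat.cast_add, Nat.cast_le, add_mul]
    exact Nat.add_le_add (Nat.mul_le_mul_left _ (Nat.pow_le_pow_right hn he₁))
      (Nat.mul_le_mul_left _ (Nat.pow_le_pow_right hn he₂))
  · obtain ⟨e', he', a, ha⟩ := hout hx
    refine ⟨a, fun n hn => ?_⟩
    rw [List.ofFn_succ, h_cons_of_regular _ _ _ ((quotient_regular hx).pow n)]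
    refine (h_quot_pow_le _ (quotient_regular hx) _ n).trans ?_
    refine (mul_le_mul_of_nonneg_left (ha n hn) zero_le).trans ?_
    rw [← Nat.cast_mul, Nat.cast_le]
    calc n * (a * n ^ e') = a * n ^ (e' + 1) := by rw [pow_succ]; ring
      _ ≤ a * n ^ e := Nat.mul_le_mul_left _ (Nat.pow_le_pow_right hn he')

theorem bd_nil (x : Fin 0 → A) (e : ℕ) (i : ℤ) (M : Type u) [AddCommGroup M] [Module A M] [Module.Finite A M]
    (hM : Good (List.ofFn x) M) : Bd x e i M := by
  refine ⟨(h ([] : List A) M i).toNat, fun n hn => ?_⟩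
  rw [List.ofFn_zero] at hM ⊢
  refine le_trans ?_ (Nat.cast_le.2 (Nat.le_mul_of_pos_right _ (pow_pos hn e)))
  exact (ENat.natCast_toNat (hM.length_ne_top i)).ge

theorem bound_degree : ∀ (k : ℕ) (x : Fin k → A) (M : Type u) [AddCommGroup M] [Module A M]
    [Module.Finite A M], Good (List.ofFn x) M → ∀ i : ℤ, Bd x ((k : ℤ) + i).toNat i M := by
  intro k
  induction k with
  | zero => intro x M _ _ _ hM i; exact bd_nil x _ i M hM
  | succ k ih =>
    intro x M _ _ _ hM i
    refine devissage (List.ofFn x) (fun N _ _ => Bd x (((k + 1 : ℕ) : ℤ) + i).toNat i N) ?_ ?_ ?_ ?_ M hM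
    · intro N N' _ _ _ _ e h; exact h.congr e
    · intro N _ _ _; exact ⟨0, fun n _ => by rw [h_subsingleton]; exact zero_le⟩
    · intro p hp hG
      rw [List.ofFn_succ] at hG
      by_cases hout : x 0 ∉ p ∧ i < -(k : ℤ)
      · obtain ⟨hx, hi⟩ := hout
        refine ⟨0, fun n hn => ?_⟩
        rw [List.ofFn_succ, h_cons_of_regular _ _ _ ((quotient_regular hx).pow n), h,
          length_out _ _ _ (Or.inl (by simpa using hi))]
        exact zero_le
      refine bd_cons (fun hx => ?_) (fun hx => ?_)
      · have hl := hG.tail (mem_radical_annihilator hx)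
        exact ⟨_, _, by omega, by omega, ih _ _ hl i, ih _ _ hl (i + 1)⟩
      · have hi : ¬ i < -(k : ℤ) := fun hi => hout ⟨hx, hi⟩
        exact ⟨_, by omega, ih _ _ hG.quot i⟩
    · intro M₁ M₂ M₃ _ _ _ _ _ _ _ f g _ hf hg he h1 h3
      exact Bd.of_exact hf hg he h1 h3

theorem bound_dim [IsLocalRing A] : ∀ (k : ℕ) (x : Fin k → A), (∀ j, x j ∈ IsLocalRing.maximalIdeal A) →
    ∀ (M : Type u) [AddCommGroup M] [Module A M] [Module.Finite A M], Good (List.ofFn x) M →
    ∀ (d : ℕ), Module.supportDim A M ≤ (d : WithBot ℕ∞) → ∀ i : ℤ, Bd x d i M := by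
  intro k
  induction k with
  | zero => intro x _ M _ _ _ hM d _ i; exact bd_nil x _ i M hM
  | succ k ih =>
    intro x hx M _ _ _ hM d hd i
    refine (devissage (List.ofFn x) (fun N _ _ => Module.supportDim A N ≤ (d : WithBot ℕ∞) → Bd x d i N)
      ?_ ?_ ?_ ?_ M hM) hd
    · intro N N' _ _ _ _ e h h'
      exact (h (by rwa [Module.supportDim_eq_of_equiv e])).congr e
    · intro N _ _ _ _; exact ⟨0, fun n _ => by rw [h_subsingleton]; exact zero_le⟩
    · intro p hp hG hdp
      rw [List.ofFn_succ] at hG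
      refine bd_cons (fun hx0 => ?_) (fun hx0 => ?_)
      · have hl := hG.tail (mem_radical_annihilator hx0)
        exact ⟨d, d, le_rfl, le_rfl, ih _ (fun j => hx _) _ hl d hdp i, ih _ (fun j => hx _) _ hl d hdp (i + 1)⟩
      · have hreg := quotient_regular hx0
        rw [← Module.supportDim_quotSMulTop_succ_eq_supportDim hreg (hx 0)] at hdp
        haveI : Nontrivial (QuotSMulTop (x 0) (A ⧸ p)) :=
          Submodule.Quotient.nontrivial_iff.2 fun e => by
            haveI : Nontrivial (A ⧸ p) := Ideal.Quotient.nontrivial_iff.2 hp.ne_top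
            exact Submodule.top_ne_pointwise_smul_of_mem_jacobson_annihilator
              ((IsLocalRing.maximalIdeal_le_jacobson _) (hx 0)) e.symm
        rcases exists_nat_or_bot ((le_add_of_nonneg_right zero_le_one).trans hdp) with h' | ⟨m, -, h'⟩
        · exact absurd h' (Module.supportDim_ne_bot_of_nontrivial A _)
        · refine ⟨m, ?_, ih _ (fun j => hx _) _ hG.quot m h'.le i⟩
          rw [h'] at hdp
          exact_mod_cast hdp
    · intro M₁ M₂ M₃ _ _ _ _ _ _ _ f g _ hf hg he h1 h3 h
      exact Bd.of_exact hf hg he (h1 ((Module.supportDim_le_of_injective f hf).trans h))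
        (h3 ((Module.supportDim_le_of_surjective g hg).trans h))

end bounds

end Groth.KEuler
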