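import Groth.Agent.FrobLCI.KEuler.Concrete
import Groth.Agent.FrobLCI.KEuler.Main
import Groth.Agent.FrobLCI.GrInt.Poly
import Groth.Agent.Ega41Dim.Degree

/-!
The Euler characteristic is the multiplicity: filtered Koszul complexes.
-/

set_option autoImplicit false
set_option linter.unusedSectionVars false

universe u

open Filter Polynomial Topology
open Groth.FrobLCI.CE (idx dL d_d d_mem_smul_top isEmpty_idx)
open Groth.Ega41Dim (lenQ lenQ_map lenQ_top lenQ_add lenQ_eq_zero hs IsHSPoly length_quot_ne_top exists_isHSPoly)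

namespace Groth.KEuler

variable {A : Type u} [CommRing A] [IsNoetherianRing A] {M : Type u} [AddCommGroup M] [Module A M]
  [Module.Finite A M] {n : ℕ} (x : Fin n → A)

local notation "𝔞" => Ideal.span (Set.range x)

omit [IsNoetherianRing A] [Module.Finite A M] in
theorem dL_mem {k : ℕ} {i : ℕ} {v : idx n (i + 1) → M}
    (hv : v ∈ (𝔞 ^ k • ⊤ : Submodule A (idx n (i + 1) → M))) :
    dL x i v ∈ (𝔞 ^ (k + 1) • ⊤ : Submodule A (idx n i → M)) := by
  have h := Submodule.mem_map_of_mem (f := dL x i) hv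
  rw [Submodule.map_smul'', Submodule.map_top] at h
  have hr : LinearMap.range (dL (M := M) x i) ≤ 𝔞 • ⊤ := by
    rintro _ ⟨w, rfl⟩
    exact (mem_smul_top_pi' _ _).2 (d_mem_smul_top x i w)
  rw [pow_succ, mul_smul]
  exact Submodule.smul_mono le_rfl hr h

omit [IsNoetherianRing A] [Module.Finite A M] in
theorem smul_cycle_mem {i : ℕ} (j : Fin n) {k : ℕ} {z : idx n i → M} (hz : z ∈ Z x i)
    (hk : z ∈ (𝔞 ^ k • ⊤ : Submodule A (idx n i → M))) :
    x j • z ∈ (𝔞 ^ k • ⊤ : Submodule A (idx n (i + 1) → M)).map (dL x i) := by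
  have hh : htp A M j i z ∈ (𝔞 ^ k • ⊤ : Submodule A (idx n (i + 1) → M)) := by
    have h := Submodule.mem_map_of_mem (f := htp A M j i) hk
    rw [Submodule.map_smul''] at h
    exact Submodule.smul_mono le_rfl le_top h
  refine ⟨_, hh, ?_⟩
  cases i with
  | zero => exact d_htp_zero x j z
  | succ i =>
    have := d_htp_succ x j i z
    rwa [show Groth.FrobLCI.CE.d x i z = 0 from hz, map_zero, add_zero] at this

/-- deep cycles are boundaries of deep chains -/
theorem exists_acyclic (i : ℕ) : ∃ c, ∀ m, c ≤ m →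
    Z x i ⊓ (𝔞 ^ m • ⊤ : Submodule A (idx n i → M)) ≤
      (𝔞 ^ (m - 1) • ⊤ : Submodule A (idx n (i + 1) → M)).map (dL x i) := by
  obtain ⟨k, hk⟩ := Ideal.exists_pow_inf_eq_pow_smul 𝔞 (Z (M := M) x i)
  refine ⟨k + 1, fun m hm => ?_⟩
  have h : Z x i ⊓ (𝔞 ^ m • ⊤ : Submodule A (idx n i → M)) =
      𝔞 • (𝔞 ^ (m - 1) • ⊤ ⊓ Z x i) := by
    rw [inf_comm, hk m (by omega), hk (m - 1) (by omega), ← mul_smul 𝔞 (𝔞 ^ (m - 1 - k)), ← pow_succ',
      show m - 1 - k + 1 = m - k by omega]
  rw [h, Submodule.smul_le]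
  intro a ha z hz
  induction ha using Submodule.span_induction with
  | mem a ha =>
    obtain ⟨j, rfl⟩ := ha
    exact smul_cycle_mem x j hz.2 hz.1
  | zero => rw [zero_smul]; exact Submodule.zero_mem _
  | add a b _ _ ha hb => rw [add_smul]; exact Submodule.add_mem _ ha hb
  | smul c a _ ha => rw [smul_eq_mul, mul_smul]; exact Submodule.smul_mem _ _ ha

omit [IsNoetherianRing A] [Module.Finite A M] in
theorem range_le_Z (i : ℕ) : LinearMap.range (dL (M := M) x i) ≤ Z x i := by
  cases i with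
  | zero => exact le_top
  | succ i => rintro _ ⟨v, rfl⟩; exact d_d x i v

omit [IsNoetherianRing A] [Module.Finite A M] in
theorem lenQ_sup {X : Type u} [AddCommGroup X] [Module A X] {Z B T : Submodule A X}
    (hBZ : B ≤ Z) (hT : Z ⊓ T ≤ B) : lenQ (Z ⊔ T) (B ⊔ T) = lenQ Z B := by
  have h := lenQ_map LinearMap.id Z (B ⊔ T)
  rw [Submodule.comap_id, Submodule.map_id, inf_comm, sup_inf_assoc_of_le T hBZ, inf_comm T Z,
    sup_eq_left.2 hT, ← sup_assoc, sup_eq_left.2 hBZ] at h
  exact h.symm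

omit [IsNoetherianRing A] [Module.Finite A M] in
theorem pow_sup_smul (I : Ideal A) : ∀ k : ℕ,
    ((I ⊔ Module.annihilator A M) ^ k • ⊤ : Submodule A M) = I ^ k • ⊤
  | 0 => by simp
  | k + 1 => by
    have h0 : (Module.annihilator A M) • (I ^ k • ⊤ : Submodule A M) = ⊥ := by
      rw [eq_bot_iff, Submodule.smul_le]
      intro a ha m _
      simpa using Module.mem_annihilator.1 ha m
    rw [pow_succ', mul_smul, pow_sup_smul I k, Submodule.sup_smul, h0, sup_bot_eq, ← mul_smul, ← pow_succ']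

omit [IsNoetherianRing A] [Module.Finite A M] in
theorem hs_sup (I : Ideal A) : hs (I ⊔ Module.annihilator A M) M = hs I M :=
  funext fun k => by rw [hs, hs, pow_sup_smul]

omit [IsNoetherianRing A] [Module.Finite A M] in
theorem ofList_ofFn : Ideal.ofList (List.ofFn x) = 𝔞 := by
  rw [Ideal.ofList]
  exact congrArg Ideal.span (Set.ext fun a => (List.mem_ofFn' x a))

omit [IsNoetherianRing A] [Module.Finite A M] in
theorem isMaximal_of_good (hM : Good (List.ofFn x) M) (p : Ideal A) (hp : p.IsPrime)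
    (hle : 𝔞 ⊔ Module.annihilator A M ≤ p) : p.IsMaximal :=
  hM p hp (by rwa [ofList_ofFn, sup_comm])

omit [Module.Finite A M] in
theorem isArtinian_sup (hM : Good (List.ofFn x) M) : IsArtinianRing (A ⧸ (𝔞 ⊔ Module.annihilator A M)) :=
  Groth.Ega41Dim.isArtinianRing_quotient_of_forall_isMaximal _ (isMaximal_of_good x hM)

theorem length_quot_ne_top' (hM : Good (List.ofFn x) M) (k : ℕ) :
    Module.length A (M ⧸ (𝔞 ^ k • ⊤ : Submodule A M)) ≠ ⊤ := by
  have := isArtinian_sup x hM
  rw [← pow_sup_smul]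
  exact length_quot_ne_top _ M k

theorem exists_hsPoly (hM : Good (List.ofFn x) M) : ∃ P, IsHSPoly 𝔞 M P := by
  have := isArtinian_sup x hM
  obtain ⟨P, hP⟩ := exists_isHSPoly (𝔞 ⊔ Module.annihilator A M) M
  exact ⟨P, by rwa [IsHSPoly, hs_sup] at hP⟩

theorem natDegree_le_of_good [IsLocalRing A] (hx : ∀ j, x j ∈ IsLocalRing.maximalIdeal A)
    (hM : Good (List.ofFn x) M) {P : ℚ[X]} (hP : IsHSPoly 𝔞 M P) : P.natDegree ≤ n := by
  have := isArtinian_sup x hM
  have hP' : IsHSPoly (𝔞 ⊔ Module.annihilator A M) M P := by rwa [IsHSPoly, hs_sup]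
  rcases subsingleton_or_nontrivial M with hS | hN
  · have h0 : IsHSPoly (𝔞 ⊔ Module.annihilator A M) M (0 : ℚ[X]) := Eventually.of_forall fun k => by
      rw [hs, Module.length_eq_zero, ENat.toNat_zero, Nat.cast_zero, eval_zero]
    rw [hP'.unique h0, natDegree_zero]
    exact Nat.zero_le _
  · refine Groth.Ega41Dim.natDegree_le_of_supportDim_le (isMaximal_of_good x hM) ?_ n M
      (dim_le_of_good hx M hM) P hP'
    rw [IsLocalRing.jacobson_eq_maximalIdeal ⊥ bot_ne_top]
    refine sup_le (Ideal.span_le.2 ?_) (IsLocalRing.le_maximalIdeal ?_)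
    · rintro _ ⟨j, rfl⟩; exact hx j
    · rw [Ne, Module.annihilator_eq_top_iff]
      exact not_subsingleton M

section good

variable (hM : Good (List.ofFn x) M)
include hM

theorem length_quot_pi (i k : ℕ) :
    Module.length A ((idx n i → M) ⧸ (𝔞 ^ k • ⊤ : Submodule A (idx n i → M))) =
      ((n.choose i * hs 𝔞 M k : ℕ) : ℕ∞) := by
  classical
  have e : (𝔞 ^ k • ⊤ : Submodule A (idx n i → M)) =
      Submodule.pi Set.univ (fun _ : idx n i => (𝔞 ^ k • ⊤ : Submodule A M)) := by
    ext v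
    rw [mem_smul_top_pi']
    simp [Submodule.mem_pi]
  rw [(Submodule.quotEquivOfEq _ _ e).length_eq,
    (Submodule.quotientPi fun _ : idx n i => (𝔞 ^ k • ⊤ : Submodule A M)).length_eq, Module.length_pi_of_fintype,
    Finset.sum_const, Finset.card_univ, card_idx, nsmul_eq_mul, Nat.cast_mul, hs,
    ENat.natCast_toNat (length_quot_ne_top' x hM k)]

theorem length_quot_pi_ne_top (i k : ℕ) {U : Submodule A (idx n i → M)}
    (h : (𝔞 ^ k • ⊤ : Submodule A (idx n i → M)) ≤ U) : Module.length A ((idx n i → M) ⧸ U) ≠ ⊤ :=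
  ne_top_of_le_ne_top (by rw [length_quot_pi x hM i k]; exact ENat.natCast_ne_top _)
    (Module.length_le_of_surjective (Submodule.factor h) (Submodule.factor_surjective h))

/-- the Euler characteristic through truncations -/
theorem chi_eq_sum_hs :
    ∀ᶠ N : ℕ in atTop, chi (List.ofFn x) M =
      ∑ i ∈ Finset.range (n + 1), (-1 : ℤ) ^ i * ((n.choose i : ℤ) * (hs 𝔞 M (N - i) : ℤ)) := by
  choose c hc using exists_acyclic (M := M) x
  refine eventually_atTop.2 ⟨(Finset.range (n + 1)).sup c + n + 1, fun N hN => ?_⟩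
  have hcle : ∀ i ≤ n, c i ≤ N - i := fun i hi => by
    have := Finset.le_sup (f := c) (Finset.mem_range.2 (by omega : i < n + 1)); omega
  let T : ∀ i, Submodule A (idx n i → M) := fun i => 𝔞 ^ (N - i) • ⊤
  let b : ℕ → ℤ := fun i => ((Module.length A ((idx n i → M) ⧸ (Z x i ⊔ T i))).toNat : ℤ)
  let q : ℕ → ℤ := fun i => ((h (List.ofFn x) M (-(i : ℤ))).toNat : ℤ)
  have hstep : ∀ i ≤ n, ((n.choose i * hs 𝔞 M (N - i) : ℕ) : ℤ) = b i + q i + b (i + 1) := by
    intro i hi
    set B := LinearMap.range (dL (M := M) x i) with hB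
    have hTT : T (i + 1) ≤ (T i).comap (dL x i) := fun v hv => by
      have h1 := dL_mem x hv
      have : N - (i + 1) + 1 = N - i := by omega
      rwa [this] at h1
    have hcomap : (T i).comap (dL x i) = LinearMap.ker (dL x i) ⊔ T (i + 1) := by
      refine le_antisymm (fun v hv => ?_) (sup_le (fun v hv => ?_) hTT)
      · obtain ⟨w, hw, hwv⟩ := hc i (N - i) (hcle i hi) ⟨range_le_Z x i ⟨v, rfl⟩, hv⟩
        rw [show N - i - 1 = N - (i + 1) by omega] at hw
        rw [show v = (v - w) + w by abel]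
        exact Submodule.add_mem_sup (by rw [LinearMap.mem_ker, map_sub, hwv, sub_self]) hw
      · rw [Submodule.mem_comap, LinearMap.mem_ker.1 hv]; exact Submodule.zero_mem _
    have hZT : Z x i ⊓ T i ≤ B := (hc i (N - i) (hcle i hi)).trans LinearMap.map_le_range
    have e1 : Module.length A ((idx n i → M) ⧸ T i) =
        Module.length A ((idx n i → M) ⧸ (Z x i ⊔ T i)) + (lenQ (Z x i) B +
          Module.length A ((idx n (i + 1) → M) ⧸ (Z x (i + 1) ⊔ T (i + 1)))) := by
      have e3 : lenQ (B ⊔ T i) (T i) = Module.length A ((idx n (i + 1) → M) ⧸ (Z x (i + 1) ⊔ T (i + 1))) := by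
        rw [hB, ← Submodule.map_top, ← lenQ_map, top_inf_eq, hcomap, lenQ_top]
        rfl
      rw [← e3, ← lenQ_sup (range_le_Z x i) hZT, ← lenQ_top, ← lenQ_top,
        ← lenQ_add le_sup_right (sup_le_sup_right (range_le_Z x i) (T i)),
        ← lenQ_add le_sup_right le_top]
    have f1 := length_quot_pi_ne_top (M := M) x hM i (N - i) (le_sup_right : T i ≤ Z x i ⊔ T i)
    have f2 := length_quot_pi_ne_top (M := M) x hM (i + 1) (N - (i + 1))
      (le_sup_right : T (i + 1) ≤ Z x (i + 1) ⊔ T (i + 1))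
    have f3 : lenQ (Z x i) B ≠ ⊤ := by rw [hB, ← h_eq_lenQ]; exact hM.length_ne_top _
    rw [length_quot_pi x hM] at e1
    have e2 := congrArg ENat.toNat e1
    have f23 : lenQ (Z x i) B + Module.length A ((idx n (i + 1) → M) ⧸ (Z x (i + 1) ⊔ T (i + 1))) ≠ ⊤ :=
      WithTop.add_ne_top.2 ⟨f3, f2⟩
    rw [ENat.toNat_natCast, ENat.toNat_add f1 f23, ENat.toNat_add f3 f2] at e2
    rw [e2, Nat.cast_add, Nat.cast_add, ← add_assoc]
    simp only [b, q, h_eq_lenQ]
    rfl
  have hb0 : b 0 = 0 := by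
    have e : Z x 0 ⊔ T 0 = ⊤ := top_sup_eq _
    simp only [b]
    rw [(Submodule.quotEquivOfEq _ _ e).length_eq, Module.length_eq_zero]; simp
  have hbn : b (n + 1) = 0 := by
    have := isEmpty_idx n (n + 1) (Nat.lt_succ_self n)
    simp only [b]
    rw [Module.length_eq_zero]; simp
  rw [chi, List.length_ofFn]
  calc ∑ j ∈ Finset.range (n + 1), sgn j * ((h (List.ofFn x) M (-(j : ℤ))).toNat : ℤ)
      = ∑ j ∈ Finset.range (n + 1), ((-1 : ℤ) ^ j * ((n.choose j * hs 𝔞 M (N - j) : ℕ) : ℤ) -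
          ((-1 : ℤ) ^ j * b j - (-1 : ℤ) ^ (j + 1) * b (j + 1))) := by
        refine Finset.sum_congr rfl fun j hj => ?_
        rw [hstep j (by rw [Finset.mem_range] at hj; omega)]
        simp only [q, sgn, pow_succ]
        ring
    _ = _ := by
        rw [Finset.sum_sub_distrib, Finset.sum_range_sub' (fun j => (-1 : ℤ) ^ j * b j) (n + 1), hb0, hbn]
        simp

theorem h_zero : h (List.ofFn x) M 0 = (hs 𝔞 M 1 : ℕ∞) := by
  have hr : LinearMap.range (dL (M := M) x 0) = (𝔞 ^ 1 • ⊤ : Submodule A (idx n 0 → M)) := by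
    refine le_antisymm ?_ ?_
    · rintro _ ⟨w, rfl⟩
      rw [pow_one]
      exact (mem_smul_top_pi' _ _).2 (d_mem_smul_top x 0 w)
    · rw [pow_one, Submodule.smul_le]
      intro a ha z _
      induction ha using Submodule.span_induction with
      | mem a ha =>
        obtain ⟨j, rfl⟩ := ha
        exact LinearMap.map_le_range (smul_cycle_mem x j (k := 0) (i := 0) (z := z) Submodule.mem_top (by simp))
      | zero => rw [zero_smul]; exact Submodule.zero_mem _
      | add a b _ _ ha hb => rw [add_smul]; exact Submodule.add_mem _ ha hb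
      | smul c a _ ha => rw [smul_eq_mul, mul_smul]; exact Submodule.smul_mem _ _ ha
  have h0 := h_eq_lenQ (M := M) x 0
  rw [Nat.cast_zero, neg_zero] at h0
  rw [h0, hr, show Z (M := M) x 0 = ⊤ from rfl, lenQ_top, length_quot_pi x hM, Nat.choose_zero_right, one_mul]

end good

/-- coefficientwise pairing -/
noncomputable def actHom (g : ℕ → ℤ) : ℤ[X] →+ ℤ where
  toFun c := c.sum fun e a => a * g e
  map_zero' := Polynomial.sum_zero_index _
  map_add' p q := Polynomial.sum_add_index p q _ (fun _ => zero_mul _) fun _ _ _ => add_mul _ _ _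

omit [IsNoetherianRing A] [Module.Finite A M] in
theorem actHom_C_mul_X_pow (g : ℕ → ℤ) (a : ℤ) (e : ℕ) : actHom g (Polynomial.C a * X ^ e) = a * g e := by
  show (Polynomial.C a * X ^ e).sum (fun e a => a * g e) = _
  rw [Polynomial.C_mul_X_pow_eq_monomial, Polynomial.sum_monomial_index] ; simp

/-- the polynomial of the shift -/
theorem op_eq {P : ℚ[X]} (hP : P.natDegree ≤ n) :
    Groth.GrInt.op ((1 - X : ℤ[X]) ^ n) P = C ((n.factorial : ℚ) * P.coeff n) := by
  induction n generalizing P with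
  | zero =>
    rw [pow_zero, Groth.GrInt.op, map_one, Module.End.one_apply, Nat.factorial_zero, Nat.cast_one, one_mul]
    exact eq_C_of_natDegree_le_zero hP
  | succ k ih =>
    have hsh : Groth.GrInt.op ((1 - X : ℤ[X]) ^ (k + 1)) P =
        Groth.GrInt.op ((1 - X : ℤ[X]) ^ k) (P - Groth.GrInt.shift P) := by
      rw [pow_succ, Groth.GrInt.op, map_mul, Module.End.mul_apply, Groth.GrInt.op]
      congr 1
      rw [map_sub, map_one, aeval_X, LinearMap.sub_apply, Module.End.one_apply]
    rw [hsh]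
    have hdeg : (P - Groth.GrInt.shift P).natDegree ≤ k := by
      have e : P - Groth.GrInt.shift P = -((Groth.GrInt.shift - 1) P) := by
        rw [LinearMap.sub_apply, Module.End.one_apply, neg_sub]
      rw [e, natDegree_neg]
      rcases Nat.eq_zero_or_pos P.natDegree with h0 | hpos
      · rw [Groth.GrInt.delta_of_natDegree_zero h0, natDegree_zero]; exact Nat.zero_le _
      · rw [(Groth.GrInt.delta_of_natDegree_succ (k := P.natDegree - 1) (P := P) (by omega)).2]
        omega
    have hcoeff : (P - Groth.GrInt.shift P).coeff k = ((k : ℚ) + 1) * P.coeff (k + 1) := by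
      rw [coeff_sub, Groth.GrInt.shift, taylor_coeff,
        eq_X_add_C_of_natDegree_le_one (p := hasseDeriv k P)
          ((natDegree_hasseDeriv_le P k).trans (by omega))]
      simp only [eval_add, eval_mul, eval_C, eval_X, hasseDeriv_coeff, zero_add, Nat.choose_self,
        Nat.cast_one, one_mul, add_comm 1 k, Nat.choose_succ_self_right, Nat.cast_add]
      ring
    rw [ih hdeg, hcoeff, Nat.factorial_succ]
    push_cast
    ring_nf

theorem chi_eq_coeff (hM : Good (List.ofFn x) M) {P : ℚ[X]} (hP : IsHSPoly 𝔞 M P) (hdeg : P.natDegree ≤ n) :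
    (chi (List.ofFn x) M : ℚ) = (n.factorial : ℚ) * P.coeff n := by
  have h1 := Groth.GrInt.eventually_sum_eq_op (f := fun k => (hs 𝔞 M k : ℤ)) (P := P)
    (by simpa [IsHSPoly] using hP) ((1 - X : ℤ[X]) ^ n)
  obtain ⟨N, hN1, hN2⟩ := ((chi_eq_sum_hs x hM).and h1).exists
  rw [op_eq hdeg, eval_C] at hN2
  rw [← hN2, hN1]
  congr 1
  show _ = Groth.KEuler.actHom (fun e => (hs 𝔞 M (N - e) : ℤ)) ((1 - X : ℤ[X]) ^ n)
  rw [sub_eq_add_neg, add_comm (1 : ℤ[X]) (-X), add_pow, map_sum]
  refine Finset.sum_congr rfl fun m hm => ?_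
  have e : (-X : ℤ[X]) ^ m * 1 ^ (n - m) * ((n.choose m : ℕ) : ℤ[X]) =
      Polynomial.C ((-1 : ℤ) ^ m * (n.choose m : ℤ)) * X ^ m := by
    rw [map_mul, map_pow, map_neg, map_one, map_natCast, neg_pow]
    ring
  rw [e, actHom_C_mul_X_pow]
  ring

end Groth.KEuler
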