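import Groth.Prelude.Def_DRing2
import Groth.Prelude.Def_Koszul
import Groth.Agent.KoszulCone.Cohomology
import Groth.Agent.KoszulCone.NullHomotopy
import Groth.Agent.KoszulReg.Basic
import Groth.Agent.Ega41Dim.SystemParams

/-!
Koszul complexes with coefficients: bridge, finiteness, finite length of homology.
-/

set_option autoImplicit false
set_option linter.unusedSectionVars false

universe u

open CategoryTheory CategoryTheory.Limits MonoidalCategory HomologicalComplex
open Groth.KoszulCone

namespace Groth.KEuler

variable {A : Type u} [CommRing A]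

/-- the homology of the Koszul complex with coefficients -/
noncomputable abbrev H (l : List A) (M : Type u) [AddCommGroup M] [Module A M] (i : ℤ) : ModuleCat.{u} A :=
  (CohIII.koszulCx (ModuleCat.of A M) l).homology i

theorem smul_map_tensorRight (M : ModuleCat.{u} A) (a : A) {X Y : ModuleCat.{u} A} (φ : X ⟶ Y) :
    (tensorRight M).map (a • φ) = a • (tensorRight M).map φ :=
  MonoidalLinear.smul_whiskerRight (C := ModuleCat.{u} A) a φ M

/-- the tensored prelude Koszul complex is the Koszul complex with coefficients -/
theorem nonempty_bridge (M : ModuleCat.{u} A) : ∀ l : List A,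
    Nonempty (DRing.tensorCx (Koszul.koszul A l) M ≅ CohIII.koszulCx M l)
  | [] => ⟨(HomologicalComplex.singleMapHomologicalComplex (tensorRight M) (ComplexShape.up ℤ) 0).app
      (ModuleCat.of A A) ≪≫
      (HomologicalComplex.single (ModuleCat.{u} A) (ComplexShape.up ℤ) 0).mapIso (leftUnitor M)⟩
  | f :: l => by
    obtain ⟨e⟩ := nonempty_bridge M l
    refine ⟨CochainComplex.mappingCone.mapHomologicalComplexIso (f • 𝟙 (Koszul.koszul A l)) (tensorRight M) ≪≫
      Groth.KoszulReg.coneIso _ _ e e ?_⟩
    ext n : 1
    simp only [HomologicalComplex.comp_f, Functor.mapHomologicalComplex_map_f,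
      HomologicalComplex.smul_f_apply, HomologicalComplex.id_f, smul_map_tensorRight,
      CategoryTheory.Functor.map_id, Linear.smul_comp, Linear.comp_smul, Category.id_comp, Category.comp_id]
    generalize e.hom.f n = g
    exact ModuleCat.hom_ext (LinearMap.ext fun x => g.hom.map_smul f x)

/-- homology of the tensored prelude complex -/
theorem nonempty_bridge_homology (l : List A) (M : Type u) [AddCommGroup M] [Module A M] (i : ℤ) :
    Nonempty ((DRing.tensorCx (Koszul.koszul A l) (ModuleCat.of A M)).homology i ≅ H l M i) :=
  (nonempty_bridge (ModuleCat.of A M) l).map fun e => (homologyFunctor _ _ i).mapIso e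

theorem length_bridge (l : List A) (M : Type u) [AddCommGroup M] [Module A M] (i : ℤ) :
    Module.length A ((DRing.tensorCx (Koszul.koszul A l) (ModuleCat.of A M)).homology i) =
      Module.length A (H l M i) :=
  (nonempty_bridge_homology l M i).elim fun e => e.toLinearEquiv.length_eq

theorem subsingleton_out (l : List A) (M : Type u) [AddCommGroup M] [Module A M] (i : ℤ)
    (h : i < -l.length ∨ 0 < i) : Subsingleton (H l M i) :=
  subsingleton_homology_out (ModuleCat.of A M) l i h

theorem length_out (l : List A) (M : Type u) [AddCommGroup M] [Module A M] (i : ℤ)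
    (h : i < -l.length ∨ 0 < i) : Module.length A (H l M i) = 0 :=
  haveI := subsingleton_out l M i h
  Module.length_eq_zero

theorem annihilator_le (l : List A) (M : Type u) [AddCommGroup M] [Module A M] (i : ℤ) :
    Module.annihilator A M ⊔ Ideal.ofList l ≤ Module.annihilator A (H l M i) := by
  refine sup_le (fun a ha => ?_) (fun a ha => Module.mem_annihilator.2 fun x =>
    smul_homology_eq_zero l _ a ha i x)
  rw [Module.mem_annihilator] at ha ⊢
  intro x
  have h0 : a • 𝟙 (ModuleCat.of A M) = (0 : A) • 𝟙 (ModuleCat.of A M) :=
    ModuleCat.hom_ext (LinearMap.ext fun y => (ha y).trans (zero_smul A y).symm)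
  have h1 := congrArg (fun g => koszulMap g l) h0
  simp only [koszulMap_smul_id] at h1
  refine (homologyMap_smul_id_apply (K := CohIII.koszulCx (ModuleCat.of A M) l) a i x).symm.trans ?_
  rw [h1, homologyMap_smul_id_apply, zero_smul]

theorem finite_of_exact [IsNoetherianRing A] {X Y Z : Type u} [AddCommGroup X] [Module A X]
    [AddCommGroup Y] [Module A Y] [AddCommGroup Z] [Module A Z] [Module.Finite A X] [Module.Finite A Z]
    {f : X →ₗ[A] Y} {g : Y →ₗ[A] Z} (h : Function.Exact f g) : Module.Finite A Y := by
  haveI : IsNoetherian A Y := isNoetherian_of_range_eq_ker f g h.linearMap_ker_eq.symm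
  infer_instance

theorem finite_H [IsNoetherianRing A] : ∀ (l : List A) (M : Type u) [AddCommGroup M] [Module A M]
    [Module.Finite A M] (i : ℤ), Module.Finite A (H l M i)
  | [], M, _, _, _, i => by
    by_cases hi : i = 0
    · subst hi
      exact Module.Finite.equiv (singleObjHomologySelfIso (ComplexShape.up ℤ) 0 (ModuleCat.of A M)).symm.toLinearEquiv
    · haveI := subsingleton_out ([] : List A) M i (by simp only [List.length_nil, Nat.cast_zero, neg_zero]; omega)
      infer_instance
  | f :: l, M, _, _, _, i => by
    haveI := finite_H l M i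
    haveI := finite_H l M (i + 1)
    obtain ⟨δ, hδ, -⟩ := cone_exact_delta (f • 𝟙 (CohIII.koszulCx (ModuleCat.of A M) l)) i (i + 1) rfl
    exact finite_of_exact (f := (homologyMap (CochainComplex.mappingCone.inr
      (f • 𝟙 (CohIII.koszulCx (ModuleCat.of A M) l))) i).hom) hδ

/-- the support of `M` meets `V(l)` only in closed points -/
def Good (l : List A) (M : Type u) [AddCommGroup M] [Module A M] : Prop :=
  ∀ p : Ideal A, p.IsPrime → Module.annihilator A M ⊔ Ideal.ofList l ≤ p → p.IsMaximal

theorem Good.mono {l l' : List A} {M N : Type u} [AddCommGroup M] [Module A M] [AddCommGroup N]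
    [Module A N] (h : Good l M)
    (hle : Module.annihilator A M ⊔ Ideal.ofList l ≤ (Module.annihilator A N ⊔ Ideal.ofList l').radical) :
    Good l' N := fun p hp hN =>
  h p hp (hle.trans (hp.isRadical.radical_le_iff.2 hN))

theorem Good.of_injective {l : List A} {M N : Type u} [AddCommGroup M] [Module A M] [AddCommGroup N]
    [Module A N] (h : Good l M) (f : N →ₗ[A] M) (hf : Function.Injective f) : Good l N :=
  h.mono ((sup_le_sup_right (f.annihilator_le_of_injective hf) _).trans Ideal.le_radical)

theorem Good.of_surjective {l : List A} {M N : Type u} [AddCommGroup M] [Module A M] [AddCommGroup N]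
    [Module A N] (h : Good l M) (f : M →ₗ[A] N) (hf : Function.Surjective f) : Good l N :=
  h.mono ((sup_le_sup_right (f.annihilator_le_of_surjective hf) _).trans Ideal.le_radical)

theorem good_congr {l : List A} {M N : Type u} [AddCommGroup M] [Module A M] [AddCommGroup N]
    [Module A N] (e : M ≃ₗ[A] N) : Good l M ↔ Good l N :=
  ⟨fun h => h.of_surjective e.toLinearMap e.surjective, fun h => h.of_injective e.toLinearMap e.injective⟩

/-- the first element can be omitted when it kills the module -/
theorem Good.tail {f : A} {l : List A} {M : Type u} [AddCommGroup M] [Module A M] (h : Good (f :: l) M)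
    (hf : f ∈ (Module.annihilator A M).radical) : Good l M := by
  refine h.mono (sup_le (le_sup_left.trans Ideal.le_radical) ?_)
  rw [Ideal.ofList_cons]
  refine sup_le ((Ideal.span_singleton_le_iff_mem _).2 (Ideal.radical_mono le_sup_left hf)) ?_
  exact le_sup_right.trans Ideal.le_radical

/-- modulo the first element -/
theorem Good.quot {f : A} {l : List A} {M : Type u} [AddCommGroup M] [Module A M] (h : Good (f :: l) M) :
    Good l (QuotSMulTop f M) := by
  refine h.mono (sup_le ?_ ?_)
  · exact ((Submodule.mkQ _).annihilator_le_of_surjective (Submodule.mkQ_surjective _)).trans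
      (le_sup_left.trans Ideal.le_radical)
  · rw [Ideal.ofList_cons]
    refine sup_le ((Ideal.span_singleton_le_iff_mem _).2 (Ideal.le_radical (Ideal.mem_sup_left ?_))) ?_
    · rw [Module.mem_annihilator]
      intro y
      obtain ⟨y, rfl⟩ := Submodule.mkQ_surjective _ y
      exact (Submodule.Quotient.mk_eq_zero _).2 (Submodule.smul_mem_pointwise_smul y f ⊤ Submodule.mem_top)
    · exact le_sup_right.trans Ideal.le_radical

variable [IsNoetherianRing A]

theorem isMaximal_of_finiteLength {N : Type u} [AddCommGroup N] [Module A N] [Module.Finite A N]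
    (hN : IsFiniteLength A N) (p : PrimeSpectrum A) (hp : p ∈ Module.support A N) : p.asIdeal.IsMaximal := by
  have h := Groth.Ega41Dim.supportDim_le_zero_of_finiteLength N hN
  obtain ⟨m, hm, hpm⟩ := Ideal.exists_le_maximal _ p.isPrime.ne_top
  have hmax := Order.krullDim_nonpos_iff_forall_isMax.1 h ⟨p, hp⟩
  have heq : (⟨⟨m, hm.isPrime⟩, Module.mem_support_mono (M := N) hpm hp⟩ : Module.support A N) ≤ ⟨p, hp⟩ :=
    hmax hpm
  rwa [show p.asIdeal = m from le_antisymm hpm heq]

theorem good_of_finiteLength (l : List A) (M : Type u) [AddCommGroup M] [Module A M] [Module.Finite A M]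
    (h : IsFiniteLength A (M ⧸ (Ideal.ofList l • (⊤ : Submodule A M)))) : Good l M := fun p hp hle =>
  isMaximal_of_finiteLength h ⟨p, hp⟩ (by
    rw [Module.support_quotient, Module.support_eq_zeroLocus]
    exact ⟨le_sup_left.trans hle, le_sup_right.trans hle⟩)

theorem Good.finiteLength_nil {M : Type u} [AddCommGroup M] [Module A M] [Module.Finite A M]
    (h : Good ([] : List A) M) : Module.length A M ≠ ⊤ := by
  haveI : IsArtinianRing (A ⧸ Module.annihilator A M) :=
    Groth.Ega41Dim.isArtinianRing_quotient_of_forall_isMaximal _ fun p hp hle =>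
      h p hp (sup_le hle (by rw [Ideal.ofList_nil]; exact bot_le))
  have h' := Groth.Ega41Dim.lenQ_ne_top (A := A) (M := M) (Module.annihilator A M) (U := ⊤) (V := ⊥)
    (Submodule.smul_le.2 fun a ha x _ => (Submodule.mem_bot A).2 (Module.mem_annihilator.1 ha x))
  rwa [Groth.Ega41Dim.lenQ_top, (Submodule.quotEquivOfEqBot _ rfl).length_eq] at h'

theorem Good.quot_smul_top {l : List A} {M : Type u} [AddCommGroup M] [Module A M] [Module.Finite A M]
    (h : Good l M) : IsFiniteLength A (M ⧸ (Ideal.ofList l • (⊤ : Submodule A M))) := by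
  refine Module.length_ne_top_iff.1 (Good.finiteLength_nil fun p hp hle => h p hp ?_)
  refine sup_le ?_ ?_
  · exact ((Submodule.mkQ _).annihilator_le_of_surjective (Submodule.mkQ_surjective _)).trans
      (le_sup_left.trans hle)
  · refine fun a ha => hle (Ideal.mem_sup_left (Module.mem_annihilator.2 fun y => ?_))
    obtain ⟨y, rfl⟩ := Submodule.mkQ_surjective _ y
    exact (Submodule.Quotient.mk_eq_zero _).2 (Submodule.smul_mem_smul ha Submodule.mem_top)

theorem Good.length_ne_top {l : List A} {M : Type u} [AddCommGroup M] [Module A M] [Module.Finite A M]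
    (h : Good l M) (i : ℤ) : Module.length A (H l M i) ≠ ⊤ :=
  haveI := finite_H l M i
  Good.finiteLength_nil fun p hp hle => h p hp ((annihilator_le l M i).trans (le_sup_left.trans hle))

end Groth.KEuler
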