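import Groth.Agent.FrobLCI.CE.Model
import Groth.Agent.FrobLCI.KEuler.Chi
import Groth.Agent.FlatCxBase.Core

/-!
The concrete model with coefficients, its homotopies and its comparison with the cone model.
-/

set_option autoImplicit false
set_option linter.unusedSectionVars false

universe u

open CategoryTheory CategoryTheory.Limits HomologicalComplex CochainComplex.HomComplex
open Groth.FrobLCI.CE (idx pt d dL d_add d_smul)
open Groth.Ega41Dim (lenQ)

namespace Groth.KEuler

variable {A : Type u} [CommRing A]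

theorem card_idx : ∀ n i : ℕ, Fintype.card (idx n i) = n.choose i
  | 0, 0 => rfl
  | 0, _ + 1 => Fintype.card_eq_zero_iff.2 (Groth.FrobLCI.CE.isEmpty_idx 0 _ (Nat.succ_pos _))
  | n + 1, 0 => by
    rw [Nat.choose_zero_right]
    exact Fintype.card_eq_one_iff.2 ⟨pt (n + 1), Groth.FrobLCI.CE.eq_pt (n + 1)⟩
  | n + 1, i + 1 => by
    rw [Nat.choose_succ_succ, ← card_idx n i, ← card_idx n (i + 1)]
    exact (Fintype.card_congr (Equiv.refl (idx n i ⊕ idx n (i + 1)))).trans Fintype.card_sum

theorem mem_smul_top_pi' {ι : Type*} [Fintype ι] {M : Type u} [AddCommGroup M] [Module A M]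
    (I : Ideal A) (v : ι → M) :
    v ∈ (I • ⊤ : Submodule A (ι → M)) ↔ ∀ i, v i ∈ (I • ⊤ : Submodule A M) := by
  classical
  refine ⟨fun h i => ?_, fun h => ?_⟩
  · have := Submodule.mem_map_of_mem (f := (LinearMap.proj i : (ι → M) →ₗ[A] M)) h
    rw [Submodule.map_smul''] at this
    exact Submodule.smul_mono le_rfl le_top this
  · rw [show v = ∑ i, LinearMap.single A (fun _ => M) i (v i) from (Finset.univ_sum_single v).symm]
    refine Submodule.sum_mem _ fun i _ => ?_
    have := Submodule.mem_map_of_mem (f := LinearMap.single A (fun _ : ι => M) i) (h i)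
    rw [Submodule.map_smul''] at this
    exact Submodule.smul_mono le_rfl le_top this

section homotopy

variable {M : Type u} [AddCommGroup M] [Module A M]

variable (A M) in
/-- the homotopy of the `j`-th element -/
noncomputable def htp : ∀ {n : ℕ} (_ : Fin n) (i : ℕ), (idx n i → M) →ₗ[A] (idx n (i + 1) → M)
  | 0, j, _ => j.elim0
  | n + 1, j, i => Fin.cases
      (match i with
        | 0 => LinearMap.pi (Sum.elim (fun a => LinearMap.proj a) fun _ : idx n 1 => 0)
        | i + 1 => LinearMap.pi (Sum.elim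
            (fun a : idx n (i + 1) => LinearMap.proj (R := A) (φ := fun _ : idx (n + 1) (i + 1) => M) (Sum.inr a))
            fun _ : idx n (i + 2) => 0))
      (fun j' => match i with
        | 0 => LinearMap.pi (Sum.elim (fun _ : idx n 0 => 0) fun b => LinearMap.proj b ∘ₗ htp j' 0)
        | i + 1 => LinearMap.pi (Sum.elim
            (fun a : idx n (i + 1) => -(LinearMap.proj a ∘ₗ htp j' i ∘ₗ LinearMap.funLeft A M Sum.inl))
            fun b => LinearMap.proj b ∘ₗ htp j' (i + 1) ∘ₗ LinearMap.funLeft A M Sum.inr))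
      j

theorem d_htp_zero : ∀ {n : ℕ} (x : Fin n → A) (j : Fin n) (v : idx n 0 → M),
    d x 0 (htp A M j 0 v) = x j • v
  | 0, _, j, _ => j.elim0
  | n + 1, x, j, v => funext fun k => by
    rw [Groth.FrobLCI.CE.d_zero_apply]
    induction j using Fin.cases with
    | zero =>
      show x 0 • v k + d (Fin.tail x) 0 (0 : idx n 1 → M) k = x 0 • v k
      rw [show d (Fin.tail x) 0 (0 : idx n 1 → M) = 0 from (dL (Fin.tail x) 0).map_zero, Pi.zero_apply,
        add_zero]
    | succ j =>
      show x 0 • (0 : M) + d (Fin.tail x) 0 (htp A M j 0 v) k = x j.succ • v k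
      rw [smul_zero, zero_add, d_htp_zero (Fin.tail x) j v]
      rfl

theorem d_htp_succ : ∀ {n : ℕ} (x : Fin n → A) (j : Fin n) (i : ℕ) (v : idx n (i + 1) → M),
    d x (i + 1) (htp A M j (i + 1) v) + htp A M j i (d x i v) = x j • v
  | 0, _, j, _, _ => j.elim0
  | n + 1, x, j, i, v => funext fun k => by
    set a : idx n i → M := fun k => v (Sum.inl k) with ha
    set b : idx n (i + 1) → M := fun k => v (Sum.inr k) with hb
    have hz : ∀ (m : ℕ), d (Fin.tail x) m (0 : idx n (m + 1) → M) = 0 := fun m => (dL (Fin.tail x) m).map_zero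
    have hneg : ∀ (m : ℕ) (w : idx n (m + 1) → M), d (Fin.tail x) m (-w) = -d (Fin.tail x) m w :=
      fun m w => (dL (Fin.tail x) m).map_neg w
    induction j using Fin.cases with
    | zero =>
      rcases k with k | k
      · cases i with
        | zero =>
          show -d (Fin.tail x) 0 b k + (x 0 • a k + d (Fin.tail x) 0 b k) = x 0 • a k
          abel
        | succ i =>
          show -d (Fin.tail x) (i + 1) b k + (x 0 • a k + d (Fin.tail x) (i + 1) b k) = x 0 • a k
          abel
      · cases i with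
        | zero =>
          show x 0 • b k + d (Fin.tail x) 1 (0 : idx n 2 → M) k + 0 = x 0 • b k
          rw [hz, Pi.zero_apply, add_zero, add_zero]
        | succ i =>
          show x 0 • b k + d (Fin.tail x) (i + 2) (0 : idx n (i + 3) → M) k + 0 = x 0 • b k
          rw [hz, Pi.zero_apply, add_zero, add_zero]
    | succ j =>
      cases i with
      | zero =>
        rcases k with k | k
        · show -d (Fin.tail x) 0 (-(htp A M j 0 a)) k + 0 = x j.succ • a k
          rw [hneg, Pi.neg_apply, neg_neg, add_zero, d_htp_zero (Fin.tail x) j a]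
          rfl
        · show x 0 • -(htp A M j 0 a k) + d (Fin.tail x) 1 (htp A M j 1 b) k +
            htp A M j 0 (x 0 • a + d (Fin.tail x) 0 b) k = x j.succ • b k
          have h := congrFun (d_htp_succ (Fin.tail x) j 0 b) k
          rw [map_add, map_smul, Pi.add_apply, Pi.smul_apply, smul_neg]
          rw [Pi.add_apply] at h
          rw [show x j.succ • b k = (Fin.tail x j • b) k from rfl, ← h]
          abel
      | succ i =>
        rcases k with k | k
        · show -d (Fin.tail x) (i + 1) (-(htp A M j (i + 1) a)) k +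
            -(htp A M j i (-(d (Fin.tail x) i a)) k) = x j.succ • a k
          have h := congrFun (d_htp_succ (Fin.tail x) j i a) k
          rw [hneg, Pi.neg_apply, neg_neg, map_neg, Pi.neg_apply, neg_neg]
          exact h
        · show x 0 • -(htp A M j (i + 1) a k) + d (Fin.tail x) (i + 2) (htp A M j (i + 2) b) k +
            htp A M j (i + 1) (x 0 • a + d (Fin.tail x) (i + 1) b) k = x j.succ • b k
          have h := congrFun (d_htp_succ (Fin.tail x) j (i + 1) b) k
          rw [map_add, map_smul, Pi.add_apply, Pi.smul_apply, smul_neg]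
          rw [Pi.add_apply] at h
          rw [show x j.succ • b k = (Fin.tail x j • b) k from rfl, ← h]
          abel

end homotopy

/-- the cone model is the concrete one -/
theorem exists_equiv (M : ModuleCat.{u} A) : ∀ {n : ℕ} (x : Fin n → A),
    ∃ e : ∀ i : ℕ, (idx n i → M) ≃ₗ[A] (CohIII.koszulCx M (List.ofFn x)).X (-(i : ℤ)),
      ∀ i (v : idx n (i + 1) → M),
        ((CohIII.koszulCx M (List.ofFn x)).d (-((i + 1 : ℕ) : ℤ)) (-(i : ℤ))).hom (e (i + 1) v) =
          e i (d x i v) := by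
  intro n
  induction n with
  | zero =>
    intro x
    rw [List.ofFn_zero]
    have hs : ∀ i : ℕ, Subsingleton ((CohIII.koszulCx M ([] : List A)).X (-((i + 1 : ℕ) : ℤ))) := fun i =>
      ModuleCat.subsingleton_of_isZero (HomologicalComplex.isZero_single_obj_X _ _ _ _ (by push_cast; omega))
    refine ⟨fun i => match i with
      | 0 => (LinearEquiv.funUnique Unit A M).trans
          (HomologicalComplex.singleObjXSelf (ComplexShape.up ℤ) 0 M).toLinearEquiv.symm
      | i + 1 => LinearEquiv.ofBijective (0 : (idx 0 (i + 1) → M) →ₗ[A] _)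
          ⟨fun _ _ _ => funext fun k => Empty.elim k, fun y => ⟨0, @Subsingleton.elim _ (hs i) _ _⟩⟩,
      fun i v => ?_⟩
    have h1 : d x i v = 0 := funext fun k => by
      rcases i with _ | i <;> rfl
    rw [h1, map_zero, show v = 0 from funext fun k => Empty.elim k, map_zero, map_zero]
  | succ n ih =>
    intro x
    obtain ⟨e, he⟩ := ih (Fin.tail x)
    rw [List.ofFn_succ, show (fun i : Fin n => x i.succ) = Fin.tail x from rfl]
    have hz : ∀ i : ℤ, 0 < i → IsZero ((CohIII.koszulCx M (List.ofFn (Fin.tail x))).X i) := fun i hi =>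
      Groth.KoszulCone.koszulCx_X_isZero M _ i (Or.inr hi)
    change ∃ e' : ∀ i : ℕ, (idx (n + 1) i → M) ≃ₗ[A]
        (CochainComplex.mappingCone (x 0 • 𝟙 (CohIII.koszulCx M (List.ofFn (Fin.tail x))))).X (-(i : ℤ)),
      ∀ i (v : idx (n + 1) (i + 1) → M),
        ((CochainComplex.mappingCone (x 0 • 𝟙 (CohIII.koszulCx M (List.ofFn (Fin.tail x))))).d
          (-((i + 1 : ℕ) : ℤ)) (-(i : ℤ))).hom (e' (i + 1) v) = e' i (d x i v)
    generalize CohIII.koszulCx M (List.ofFn (Fin.tail x)) = K at e he hz ⊢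
    let φ : K ⟶ K := x 0 • 𝟙 K
    let inl : ∀ i : ℕ, K.X (-(i : ℤ)) →ₗ[A] (CochainComplex.mappingCone φ).X (-((i + 1 : ℕ) : ℤ)) := fun i =>
      ((CochainComplex.mappingCone.inl φ).v (-(i : ℤ)) (-((i + 1 : ℕ) : ℤ)) (by push_cast; omega)).hom
    let inr : ∀ i : ℕ, K.X (-(i : ℤ)) →ₗ[A] (CochainComplex.mappingCone φ).X (-(i : ℤ)) := fun i =>
      ((CochainComplex.mappingCone.inr φ).f (-(i : ℤ))).hom
    let g0 : (idx (n + 1) 0 → M) →ₗ[A] (CochainComplex.mappingCone φ).X (-((0 : ℕ) : ℤ)) :=
      (inr 0).comp (e 0).toLinearMap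
    have hg0 : Function.Bijective g0 := by
      refine ⟨fun v w hvw => (e 0).injective ?_, fun z => ?_⟩
      · have h : ∀ a, ((CochainComplex.mappingCone.snd φ).v (-((0 : ℕ) : ℤ)) _ (add_zero _)).hom (inr 0 a) = a :=
          fun a => LinearMap.congr_fun (congrArg ModuleCat.Hom.hom
            (CochainComplex.mappingCone.inr_f_snd_v φ (-((0 : ℕ) : ℤ)))) a
        rw [← h (e 0 v), ← h (e 0 w)]
        exact congrArg _ hvw
      · have h := LinearMap.congr_fun (congrArg ModuleCat.Hom.hom
          (CochainComplex.mappingCone.id_X φ (-((0 : ℕ) : ℤ)) (-((0 : ℕ) : ℤ) + 1) rfl)) z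
        have h1 : ((CochainComplex.mappingCone.fst φ).1.v (-((0 : ℕ) : ℤ)) (-((0 : ℕ) : ℤ) + 1) rfl) = 0 :=
          (hz _ (by simp)).eq_of_tgt _ _
        rw [h1, Limits.zero_comp, zero_add] at h
        obtain ⟨v, hv⟩ := (e 0).surjective
          (((CochainComplex.mappingCone.snd φ).v (-((0 : ℕ) : ℤ)) _ (add_zero _)).hom z)
        exact ⟨v, (congrArg (inr 0) hv).trans h⟩
    let g : ∀ i : ℕ, (idx (n + 1) (i + 1) → M) →ₗ[A] (CochainComplex.mappingCone φ).X (-((i + 1 : ℕ) : ℤ)) :=
      fun i => (inl i).comp ((e i).toLinearMap.comp (LinearMap.funLeft A M (Sum.inl : idx n i → idx n i ⊕ idx n (i + 1)))) +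
        (inr (i + 1)).comp ((e (i + 1)).toLinearMap.comp (LinearMap.funLeft A M Sum.inr))
    have hg : ∀ i, Function.Bijective (g i) := fun i => by
      have hfl : ∀ a, ((CochainComplex.mappingCone.fst φ).1.v (-((i + 1 : ℕ) : ℤ)) (-(i : ℤ)) (by push_cast; omega)).hom (inl i a) = a :=
        fun a => LinearMap.congr_fun (congrArg ModuleCat.Hom.hom
          (CochainComplex.mappingCone.inl_v_fst_v φ (-(i : ℤ)) (-((i + 1 : ℕ) : ℤ)) (by push_cast; omega))) a
      have hfr : ∀ a, ((CochainComplex.mappingCone.fst φ).1.v (-((i + 1 : ℕ) : ℤ)) (-(i : ℤ)) (by push_cast; omega)).hom (inr (i + 1) a) = 0 :=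
        fun a => LinearMap.congr_fun (congrArg ModuleCat.Hom.hom
          (CochainComplex.mappingCone.inr_f_fst_v φ (-((i + 1 : ℕ) : ℤ)) (-(i : ℤ)) (by push_cast; omega))) a
      have hsl : ∀ a, ((CochainComplex.mappingCone.snd φ).v (-((i + 1 : ℕ) : ℤ)) _ (add_zero _)).hom (inl i a) = 0 :=
        fun a => LinearMap.congr_fun (congrArg ModuleCat.Hom.hom
          (CochainComplex.mappingCone.inl_v_snd_v φ (-(i : ℤ)) (-((i + 1 : ℕ) : ℤ)) (by push_cast; omega))) a
      have hsr : ∀ a, ((CochainComplex.mappingCone.snd φ).v (-((i + 1 : ℕ) : ℤ)) _ (add_zero _)).hom (inr (i + 1) a) = a :=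
        fun a => LinearMap.congr_fun (congrArg ModuleCat.Hom.hom
          (CochainComplex.mappingCone.inr_f_snd_v φ (-((i + 1 : ℕ) : ℤ)))) a
      refine ⟨fun v w hvw => ?_, fun z => ?_⟩
      · have h1 := congrArg ((CochainComplex.mappingCone.fst φ).1.v (-((i + 1 : ℕ) : ℤ)) (-(i : ℤ)) (by push_cast; omega)).hom hvw
        have h2 := congrArg ((CochainComplex.mappingCone.snd φ).v (-((i + 1 : ℕ) : ℤ)) _ (add_zero _)).hom hvw
        simp only [g, LinearMap.add_apply, LinearMap.comp_apply, map_add, hfl, hfr, hsl, hsr, add_zero, zero_add] at h1 h2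
        have h3 := (e i).injective h1
        have h4 := (e (i + 1)).injective h2
        funext k
        rcases k with k | k
        · exact congrFun h3 k
        · exact congrFun h4 k
      · obtain ⟨a, ha⟩ := (e i).surjective
          (((CochainComplex.mappingCone.fst φ).1.v (-((i + 1 : ℕ) : ℤ)) (-(i : ℤ)) (by push_cast; omega)).hom z)
        obtain ⟨b, hb⟩ := (e (i + 1)).surjective
          (((CochainComplex.mappingCone.snd φ).v (-((i + 1 : ℕ) : ℤ)) _ (add_zero _)).hom z)
        refine ⟨fun k => Sum.elim a b (show idx n i ⊕ idx n (i + 1) from k), ?_⟩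
        show inl i (e i a) + inr (i + 1) (e (i + 1) b) = z
        rw [ha, hb]
        exact LinearMap.congr_fun (congrArg ModuleCat.Hom.hom
          (CochainComplex.mappingCone.id_X φ (-((i + 1 : ℕ) : ℤ)) (-(i : ℤ)) (by push_cast; omega))) z
    refine ⟨fun i => match i with
      | 0 => LinearEquiv.ofBijective g0 hg0
      | i + 1 => LinearEquiv.ofBijective (g i) (hg i), fun i v => ?_⟩
    have hinr : ∀ (j : ℕ) (a : K.X (-((j + 1 : ℕ) : ℤ))),
        ((CochainComplex.mappingCone φ).d (-((j + 1 : ℕ) : ℤ)) (-(j : ℤ))).hom (inr (j + 1) a) =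
          inr j ((K.d (-((j + 1 : ℕ) : ℤ)) (-(j : ℤ))).hom a) := fun j a =>
      LinearMap.congr_fun (congrArg ModuleCat.Hom.hom
        (CochainComplex.mappingCone.inr_f_d φ (-((j + 1 : ℕ) : ℤ)) (-(j : ℤ)))) a
    cases i with
    | zero =>
      have hinl : ∀ a : K.X (-((0 : ℕ) : ℤ)),
          ((CochainComplex.mappingCone φ).d (-((0 + 1 : ℕ) : ℤ)) (-((0 : ℕ) : ℤ))).hom (inl 0 a) =
            inr 0 (x 0 • a) := fun a => by
        have h := LinearMap.congr_fun (congrArg ModuleCat.Hom.hom
          (CochainComplex.mappingCone.inl_v_d φ (-((0 : ℕ) : ℤ)) (-((0 + 1 : ℕ) : ℤ)) (-((0 : ℕ) : ℤ) + 1)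
            (by omega) (by omega))) a
        rw [(hz (-((0 : ℕ) : ℤ) + 1) (by simp)).eq_of_tgt (K.d _ _) 0, Limits.zero_comp,
          sub_zero] at h
        exact h
      change ((CochainComplex.mappingCone φ).d _ _).hom
        (inl 0 (e 0 fun k => v (Sum.inl k)) + inr 1 (e 1 fun k => v (Sum.inr k))) = inr 0 (e 0 (d x 0 v))
      rw [map_add, hinl, hinr, he, ← map_smul (e 0), ← map_add, ← map_add]
      rfl
    | succ i =>
      have hinl : ∀ a : K.X (-((i + 1 : ℕ) : ℤ)),
          ((CochainComplex.mappingCone φ).d (-((i + 1 + 1 : ℕ) : ℤ)) (-((i + 1 : ℕ) : ℤ))).hom (inl (i + 1) a) =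
            inr (i + 1) (x 0 • a) - inl i ((K.d (-((i + 1 : ℕ) : ℤ)) (-(i : ℤ))).hom a) := fun a =>
        LinearMap.congr_fun (congrArg ModuleCat.Hom.hom
          (CochainComplex.mappingCone.inl_v_d φ (-((i + 1 : ℕ) : ℤ)) (-((i + 1 + 1 : ℕ) : ℤ)) (-(i : ℤ))
            (by push_cast; omega) (by push_cast; omega))) a
      change ((CochainComplex.mappingCone φ).d _ _).hom
        (inl (i + 1) (e (i + 1) fun k => v (Sum.inl k)) + inr (i + 1 + 1) (e (i + 1 + 1) fun k => v (Sum.inr k))) =
          inl i (e i fun k => d x (i + 1) v (Sum.inl k)) + inr (i + 1) (e (i + 1) fun k => d x (i + 1) v (Sum.inr k))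
      rw [map_add, hinl, hinr, he, he]
      have e1 : (fun k => d x (i + 1) v (Sum.inl k)) = -(d (Fin.tail x) i fun k => v (Sum.inl k)) := rfl
      have e2 : (fun k => d x (i + 1) v (Sum.inr k)) =
          x 0 • (fun k => v (Sum.inl k)) + d (Fin.tail x) (i + 1) (fun k => v (Sum.inr k)) := rfl
      rw [e1, e2, map_neg (e i), map_neg (inl i), map_add (e (i + 1)), map_smul (e (i + 1)),
        map_add (inr (i + 1))]
      abel

section homology

variable {M : Type u} [AddCommGroup M] [Module A M] {n : ℕ} (x : Fin n → A)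

/-- cycles of the concrete model -/
noncomputable def Z : ∀ i : ℕ, Submodule A (idx n i → M)
  | 0 => ⊤
  | i + 1 => LinearMap.ker (dL (M := M) x i)

theorem lenQ_equiv {X Y : Type u} [AddCommGroup X] [Module A X] [AddCommGroup Y] [Module A Y]
    (e : X ≃ₗ[A] Y) (U V : Submodule A X) : lenQ U V = lenQ (U.map (e : X →ₗ[A] Y)) (V.map (e : X →ₗ[A] Y)) := by
  refine (Submodule.Quotient.equiv (V.comap U.subtype) _ (e.submoduleMap U) ?_).length_eq
  ext y
  simp only [Submodule.mem_map, Submodule.mem_comap, Submodule.subtype_apply]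
  constructor
  · rintro ⟨z, hz, rfl⟩
    exact ⟨z.1, hz, rfl⟩
  · rintro ⟨z, hz, hzy⟩
    obtain ⟨w, hw, hwy⟩ := Submodule.mem_map.1 y.2
    exact ⟨⟨w, hw⟩, show w ∈ V by rwa [e.injective (hwy.trans hzy.symm)], Subtype.ext hwy⟩

theorem h_eq_lenQ (i : ℕ) :
    h (List.ofFn x) M (-(i : ℤ)) = lenQ (Z x i) (LinearMap.range (dL (M := M) x i)) := by
  obtain ⟨e, he⟩ := exists_equiv (ModuleCat.of A M) x
  have hB : (LinearMap.range (dL (M := M) x i)).map (e i : (idx n i → M) →ₗ[A] _) =
      LinearMap.range ((CohIII.koszulCx (ModuleCat.of A M) (List.ofFn x)).d (-((i + 1 : ℕ) : ℤ)) (-(i : ℤ))).hom := by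
    ext y
    constructor
    · rintro ⟨_, ⟨v, rfl⟩, rfl⟩
      exact ⟨e (i + 1) v, he i v⟩
    · rintro ⟨w, rfl⟩
      obtain ⟨v, rfl⟩ := (e (i + 1)).surjective w
      exact ⟨_, ⟨v, rfl⟩, (he i v).symm⟩
  have hZ : (Z (M := M) x i).map (e i : (idx n i → M) →ₗ[A] _) =
      LinearMap.ker ((CohIII.koszulCx (ModuleCat.of A M) (List.ofFn x)).d (-(i : ℤ)) (-(i : ℤ) + 1)).hom := by
    cases i with
    | zero =>
      have hz := Groth.KoszulCone.koszulCx_X_isZero (ModuleCat.of A M) (List.ofFn x) (-((0 : ℕ) : ℤ) + 1)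
        (Or.inr (by simp))
      rw [Z, Submodule.map_top, LinearEquiv.range]
      refine (LinearMap.ker_eq_top.2 ?_).symm
      exact congrArg ModuleCat.Hom.hom (hz.eq_of_tgt ((CohIII.koszulCx (ModuleCat.of A M) (List.ofFn x)).d (-((0 : ℕ) : ℤ)) (-((0 : ℕ) : ℤ) + 1)) 0)
    | succ i =>
      rw [show -((i + 1 : ℕ) : ℤ) + 1 = -(i : ℤ) by push_cast; ring]
      ext y
      obtain ⟨v, rfl⟩ := (e (i + 1)).surjective y
      rw [Submodule.mem_map_equiv, LinearEquiv.symm_apply_apply, LinearMap.mem_ker, he i v,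
        LinearEquiv.map_eq_zero_iff]
      rfl
  rw [lenQ_equiv (e i), hZ, hB]
  exact (Groth.FlatCxBase.homologyEquivQuot (CohIII.koszulCx (ModuleCat.of A M) (List.ofFn x)) (i := -((i + 1 : ℕ) : ℤ)) (j := -(i : ℤ)) (k := -(i : ℤ) + 1)
    (by simp [CochainComplex.prev]; ring) (by simp [CochainComplex.next])).length_eq.symm

end homology

end Groth.KEuler
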