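import Groth.Agent.FrobLCI.KEuler.Samuel
import Mathlib.Analysis.SpecificLimits.Normed
import Mathlib.Analysis.Normed.Module.FiniteDimension

/-!
Limits: Samuel multiplicity and Lech's formula.
-/

set_option autoImplicit false
set_option linter.unusedSectionVars false

universe u

open Filter Polynomial Topology
open Groth.Ega41Dim (hs IsHSPoly lenQ)

namespace Groth.KEuler

theorem tendsto_pow_div {i d : ℕ} (h : i < d) :
    Tendsto (fun m : ℕ => (m : ℝ) ^ i / (m : ℝ) ^ d) atTop (𝓝 0) :=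
  (tendsto_pow_div_pow_atTop_zero (𝕜 := ℝ) h).comp tendsto_natCast_atTop_atTop

theorem tendsto_eval_div {P : ℚ[X]} {d : ℕ} (h : P.natDegree ≤ d) :
    Tendsto (fun m : ℕ => ((P.eval (m : ℚ) : ℚ) : ℝ) / (m : ℝ) ^ d) atTop (𝓝 (P.coeff d : ℝ)) := by
  have e : ∀ m : ℕ, ((P.eval (m : ℚ) : ℚ) : ℝ) / (m : ℝ) ^ d =
      ∑ i ∈ Finset.range (d + 1), (P.coeff i : ℝ) * ((m : ℝ) ^ i / (m : ℝ) ^ d) := fun m => by
    rw [Polynomial.eval_eq_sum_range' (Nat.lt_succ_of_le h), Rat.cast_sum, Finset.sum_div]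
    refine Finset.sum_congr rfl fun i _ => ?_
    push_cast
    ring
  simp only [e]
  rw [show (P.coeff d : ℝ) = ∑ i ∈ Finset.range (d + 1), if i = d then (P.coeff d : ℝ) else 0 by simp]
  refine tendsto_finsetSum _ fun i hi => ?_
  by_cases hid : i = d
  · subst hid
    rw [if_pos rfl]
    refine tendsto_const_nhds.congr' (eventually_atTop.2 ⟨1, fun m hm => ?_⟩)
    dsimp only
    rw [div_self (pow_ne_zero _ (Nat.cast_ne_zero.2 (by omega : m ≠ 0))), mul_one]
  · rw [if_neg hid]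
    simpa using (tendsto_pow_div (i := i) (d := d) (by rw [Finset.mem_range] at hi; omega)).const_mul (P.coeff i : ℝ)

variable {A : Type u} [CommRing A] [IsNoetherianRing A] [IsLocalRing A]
  {M : Type u} [AddCommGroup M] [Module A M] [Module.Finite A M] {n : ℕ} (x : Fin n → A)

theorem tendsto_hs (hx : ∀ j, x j ∈ IsLocalRing.maximalIdeal A) (hM : Good (List.ofFn x) M) :
    Tendsto (fun m : ℕ => (hs (Ideal.span (Set.range x)) M m : ℝ) / (m : ℝ) ^ n) atTop
      (𝓝 ((chi (List.ofFn x) M : ℝ) / (n.factorial : ℝ))) := by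
  obtain ⟨P, hP⟩ := exists_hsPoly x hM
  have hdeg := natDegree_le_of_good x hx hM hP
  have hc : (chi (List.ofFn x) M : ℝ) / (n.factorial : ℝ) = (P.coeff n : ℝ) := by
    rw [show (chi (List.ofFn x) M : ℝ) = ((chi (List.ofFn x) M : ℚ) : ℝ) by norm_cast,
      chi_eq_coeff x hM hP hdeg, Rat.cast_mul, Rat.cast_natCast,
      mul_div_cancel_left₀ _ (Nat.cast_ne_zero.2 n.factorial_ne_zero)]
  rw [hc]
  refine (tendsto_eval_div hdeg).congr' ?_
  filter_upwards [hP] with m hm
  rw [← hm, Rat.cast_natCast]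

/-- the powers: lengths against the Euler characteristic -/
theorem tendsto_hs_pow (hM : Good (List.ofFn x) M) :
    Tendsto (fun m : ℕ => (hs (Ideal.span (Set.range fun j => x j ^ m)) M 1 : ℝ) / (m : ℝ) ^ n) atTop
      (𝓝 (chi (List.ofFn x) M : ℝ)) := by
  choose c hc using fun i => bound_degree n x M hM i
  set C : ℝ := ∑ j ∈ Finset.range n, (c (-((j + 1 : ℕ) : ℤ)) : ℝ) with hC
  have key : ∀ m : ℕ, 0 < m →
      |(hs (Ideal.span (Set.range fun j => x j ^ m)) M 1 : ℝ) - (m : ℝ) ^ n * (chi (List.ofFn x) M : ℝ)| ≤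
        C * (m : ℝ) ^ (n - 1) := by
    intro m hm
    have h0 := h_zero (fun j => x j ^ m) (hM.pow fun _ => m)
    have e : (m : ℤ) ^ n * chi (List.ofFn x) M = chi (List.ofFn fun j => x j ^ m) M := by
      rw [chi_pow_prod n x (fun _ => m) M hM, Finset.prod_const, Finset.card_univ, Fintype.card_fin]
    conv_rhs at e => rw [chi, List.length_ofFn, Finset.sum_range_succ', Nat.cast_zero, neg_zero, h0,
      ENat.toNat_natCast, sgn, pow_zero, one_mul]
    have e' := congrArg (fun z : ℤ => (z : ℝ)) e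
    push_cast at e'
    rw [show (hs (Ideal.span (Set.range fun j => x j ^ m)) M 1 : ℝ) - (m : ℝ) ^ n * (chi (List.ofFn x) M : ℝ) =
      -(∑ j ∈ Finset.range n, (-1 : ℝ) ^ (j + 1) *
        ((h (List.ofFn fun j => x j ^ m) M (-((j + 1 : ℕ) : ℤ))).toNat : ℝ)) by
          push_cast; linarith [e'], abs_neg, hC, Finset.sum_mul]
    refine (Finset.abs_sum_le_sum_abs _ _).trans (Finset.sum_le_sum fun j _ => ?_)
    rw [abs_mul, abs_pow, abs_neg, abs_one, one_pow, one_mul, Nat.abs_cast]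
    have h1 := ENat.toNat_le_toNat (hc (-((j + 1 : ℕ) : ℤ)) m hm) (ENat.natCast_ne_top _)
    rw [ENat.toNat_natCast] at h1
    refine (Nat.cast_le.2 h1).trans ?_
    push_cast
    refine mul_le_mul_of_nonneg_left (pow_le_pow_right₀ (by exact_mod_cast hm) ?_) (Nat.cast_nonneg _)
    omega
  rcases Nat.eq_zero_or_pos n with hn | hn
  · subst hn
    refine tendsto_const_nhds.congr' (eventually_atTop.2 ⟨1, fun m hm => ?_⟩)
    have := key m (by omega)
    rw [hC, Finset.range_zero, Finset.sum_empty, zero_mul, abs_nonpos_iff, sub_eq_zero] at this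
    dsimp only
    rw [this, pow_zero, one_mul, div_one]
  refine tendsto_sub_nhds_zero_iff.1 (squeeze_zero_norm' (eventually_atTop.2 ⟨1, fun m hm => ?_⟩)
    (by simpa using (tendsto_pow_div (i := n - 1) (d := n) (by omega)).const_mul C))
  have hpos : (0 : ℝ) < (m : ℝ) ^ n := pow_pos (by exact_mod_cast (by omega : 0 < m)) _
  rw [Real.norm_eq_abs, div_sub' hpos.ne', abs_div, abs_of_pos hpos, ← mul_div_assoc, mul_comm ((m : ℝ) ^ n)]
  refine (div_le_div_iff_of_pos_right hpos).2 ?_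
  rw [mul_comm]
  exact key m (by omega)

end Groth.KEuler
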